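import Groth.Prelude.Def_W4c1arstab1appArSing
import Mathlib.RingTheory.PowerSeries.Inverse
import Mathlib.RingTheory.PowerSeries.Trunc
import Mathlib.RingTheory.MvPowerSeries.Inverse
import Mathlib.RingTheory.LocalRing.Length
import Mathlib.RingTheory.RingHom.Flat

/-!
# Coordinates on `k[[x, y]]/(y^2 - x^(r+1))`: it is free on `1, y` over `k[[x]]`
-/

set_option autoImplicit false

noncomputable section

namespace Groth.Agent.ArSing32

open ArSing

universe u

variable {k : Type u} [Field k] {r : ℕ}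

/-- The exponent `(i, j)`. -/
def ind (i j : ℕ) : Fin 2 →₀ ℕ := Finsupp.single 0 i + Finsupp.single 1 j

@[simp] theorem ind_zero (i j : ℕ) : ind i j 0 = i := by simp [ind]
@[simp] theorem ind_one (i j : ℕ) : ind i j 1 = j := by simp [ind]

theorem ind_self (d : Fin 2 →₀ ℕ) : ind (d 0) (d 1) = d := by
  ext i; fin_cases i <;> simp

theorem ind_inj {i j i' j' : ℕ} : ind i j = ind i' j' ↔ i = i' ∧ j = j' :=
  ⟨fun h => ⟨by simpa using DFunLike.congr_fun h 0, by simpa using DFunLike.congr_fun h 1⟩,
    fun h => by rw [h.1, h.2]⟩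

theorem ext_ind {f g : MvPowerSeries (Fin 2) k}
    (h : ∀ i j, MvPowerSeries.coeff (ind i j) f = MvPowerSeries.coeff (ind i j) g) : f = g :=
  MvPowerSeries.ext fun d => by rw [← ind_self d]; exact h _ _

theorem coeff_eqn_mul (q : MvPowerSeries (Fin 2) k) (i j : ℕ) :
    MvPowerSeries.coeff (ind i j) (eqn k r * q) =
      (if 2 ≤ j then MvPowerSeries.coeff (ind i (j - 2)) q else 0) -
        (if r + 1 ≤ i then MvPowerSeries.coeff (ind (i - (r + 1)) j) q else 0) := by
  classical
  rw [eqn, sub_mul, map_sub, MvPowerSeries.X_pow_eq, MvPowerSeries.X_pow_eq,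
    MvPowerSeries.coeff_monomial_mul, MvPowerSeries.coeff_monomial_mul]
  congr 1
  · refine if_ctx_congr (by simp [Finsupp.le_def, Fin.forall_fin_two]) (fun _ => ?_) fun _ => rfl
    rw [one_mul]
    congr 2
    ext l; fin_cases l <;> simp
  · refine if_ctx_congr (by simp [Finsupp.le_def, Fin.forall_fin_two]) (fun _ => ?_) fun _ => rfl
    rw [one_mul]
    congr 2
    ext l; fin_cases l <;> simp

/-- The series `a(x) + b(x) y`. -/
def lift2 (a b : PowerSeries k) : MvPowerSeries (Fin 2) k :=
  PowerSeries.subst (MvPowerSeries.X 0 : MvPowerSeries (Fin 2) k) a +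
    PowerSeries.subst (MvPowerSeries.X 0 : MvPowerSeries (Fin 2) k) b * MvPowerSeries.X 1

theorem coeff_subst_X0 (a : PowerSeries k) (i j : ℕ) :
    MvPowerSeries.coeff (ind i j) (PowerSeries.subst (MvPowerSeries.X 0 : MvPowerSeries (Fin 2) k) a) =
      if j = 0 then PowerSeries.coeff i a else 0 := by
  classical
  rw [PowerSeries.coeff_subst_single, ind_zero]
  refine if_ctx_congr ?_ (fun _ => rfl) fun _ => rfl
  rw [show (Finsupp.single (0 : Fin 2) i) = ind i 0 by simp [ind], ind_inj]
  simp

theorem coeff_lift2 (a b : PowerSeries k) (i j : ℕ) :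
    MvPowerSeries.coeff (ind i j) (lift2 a b) =
      if j = 0 then PowerSeries.coeff i a else if j = 1 then PowerSeries.coeff i b else 0 := by
  classical
  rw [lift2, map_add, coeff_subst_X0, MvPowerSeries.X_def (1 : Fin 2), MvPowerSeries.coeff_mul_monomial]
  have h : Finsupp.single (1 : Fin 2) 1 ≤ ind i j ↔ 1 ≤ j := by simp [Finsupp.le_def, Fin.forall_fin_two]
  simp only [h, mul_one]
  rcases j with _ | j
  · simp
  · have e : ind i (j + 1) - Finsupp.single (1 : Fin 2) 1 = ind i j := by
      ext l; fin_cases l <;> simp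
    rw [if_pos (Nat.le_add_left 1 j), e, coeff_subst_X0]
    simp

theorem exists_lift2_add (f : MvPowerSeries (Fin 2) k) :
    ∃ a b q, f = lift2 a b + eqn k r * q := by
  classical
  let c : ℕ → ℕ → k := fun i j => MvPowerSeries.coeff (ind i j) f
  let Q : ℕ → ℕ → k := fun i j => ∑ l ∈ Finset.range (i + 1),
    if l * (r + 1) ≤ i then c (i - l * (r + 1)) (j + 2 + 2 * l) else 0
  have hQ : ∀ i j, Q i j = c i (j + 2) + if r + 1 ≤ i then Q (i - (r + 1)) (j + 2) else 0 := by
    intro i j
    simp only [Q]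
    rw [Finset.sum_range_succ', add_comm]
    congr 1
    · simp
    · split_ifs with h
      · refine (Finset.sum_subset_zero_on_sdiff (s₁ := Finset.range (i - (r + 1) + 1))
          (Finset.range_mono (by omega)) (fun l hl => ?_) fun l hl => ?_).symm
        · simp only [Finset.mem_sdiff, Finset.mem_range] at hl
          rw [if_neg]
          have : l ≤ l * (r + 1) := Nat.le_mul_of_pos_right l (by omega)
          rw [add_mul]
          omega
        · have e : (l + 1) * (r + 1) = l * (r + 1) + (r + 1) := by ring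
          refine if_ctx_congr (by rw [e]; omega) (fun h' => ?_) fun _ => rfl
          rw [e, show j + 2 + 2 + 2 * l = j + 2 + 2 * (l + 1) by ring]
          congr 1
          omega
      · refine Finset.sum_eq_zero fun l _ => if_neg ?_
        have : r + 1 ≤ (l + 1) * (r + 1) := Nat.le_mul_of_pos_left _ (by omega)
        omega
  let q : MvPowerSeries (Fin 2) k := fun d => Q (d 0) (d 1)
  have hq : ∀ i j, MvPowerSeries.coeff (ind i j) q = Q i j := fun i j => by
    rw [MvPowerSeries.coeff_apply]
    simp [q]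
  refine ⟨PowerSeries.mk fun i => c i 0 + if r + 1 ≤ i then Q (i - (r + 1)) 0 else 0,
    PowerSeries.mk fun i => c i 1 + if r + 1 ≤ i then Q (i - (r + 1)) 1 else 0, q,
    ext_ind fun i j => ?_⟩
  rw [map_add, coeff_eqn_mul, coeff_lift2, hq, hq, PowerSeries.coeff_mk, PowerSeries.coeff_mk]
  rcases j with _ | _ | j
  · simp [c]
  · simp [c]
  · rw [show j + 1 + 1 = j + 2 from rfl, Nat.add_sub_cancel]
    simp only [show j + 2 ≠ 0 by omega, show j + 2 ≠ 1 by omega, if_false, if_true,
      show 2 ≤ j + 2 by omega, zero_add]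
    rw [hQ i j]
    show c i (j + 2) = _
    ring

theorem eq_zero_of_lift2_eq {a b : PowerSeries k} {q : MvPowerSeries (Fin 2) k}
    (h : lift2 a b = eqn k r * q) : a = 0 ∧ b = 0 := by
  have hrec : ∀ i j, MvPowerSeries.coeff (ind i j) q =
      if r + 1 ≤ i then MvPowerSeries.coeff (ind (i - (r + 1)) (j + 2)) q else 0 := fun i j => by
    have := congrArg (MvPowerSeries.coeff (ind i (j + 2))) h
    rw [coeff_lift2, coeff_eqn_mul] at this
    simp only [show j + 2 ≠ 0 by omega, show j + 2 ≠ 1 by omega, if_false, if_true,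
      show 2 ≤ j + 2 by omega, Nat.add_sub_cancel] at this
    exact sub_eq_zero.1 this.symm
  have hq : ∀ i j, MvPowerSeries.coeff (ind i j) q = 0 := fun i => by
    induction i using Nat.strong_induction_on with
    | _ i ih =>
      intro j
      rw [hrec]
      split_ifs with hi
      · exact ih _ (by omega) _
      · rfl
  have hq0 : q = 0 := ext_ind fun i j => by simp [hq]
  rw [hq0, mul_zero] at h
  refine ⟨PowerSeries.ext fun i => ?_, PowerSeries.ext fun i => ?_⟩
  · simpa [coeff_lift2] using congrArg (MvPowerSeries.coeff (ind i 0)) h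
  · simpa [coeff_lift2] using congrArg (MvPowerSeries.coeff (ind i 1)) h

/-- The element `a(x) + b(x) y`. -/
def pair (a b : PowerSeries k) : ring k r := xMap k r a + xMap k r b * y k r

theorem pair_eq_mk (a b : PowerSeries k) :
    (pair a b : ring k r) = Ideal.Quotient.mk _ (lift2 a b) := by
  simp only [pair, xMap, lift2, AlgHom.comp_apply, PowerSeries.coe_substAlgHom,
    Ideal.Quotient.mkₐ_eq_mk, map_add, map_mul]

theorem pair_eq_xMap (a : PowerSeries k) : (pair a 0 : ring k r) = xMap k r a := by simp [pair]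

theorem exists_pair (z : ring k r) : ∃ a b, pair a b = z := by
  obtain ⟨f, rfl⟩ := Ideal.Quotient.mk_surjective z
  obtain ⟨a, b, q, hf⟩ := exists_lift2_add (r := r) f
  refine ⟨a, b, ?_⟩
  rw [pair_eq_mk, Ideal.Quotient.eq, hf]
  exact Ideal.mem_span_singleton'.2 ⟨-q, by ring⟩

theorem pair_eq_zero {a b : PowerSeries k} : (pair a b : ring k r) = 0 ↔ a = 0 ∧ b = 0 := by
  refine ⟨fun h => ?_, fun h => by simp [pair, h.1, h.2]⟩
  rw [pair_eq_mk, Ideal.Quotient.eq_zero_iff_mem, Ideal.mem_span_singleton'] at h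
  obtain ⟨q, hq⟩ := h
  exact eq_zero_of_lift2_eq (r := r) (q := q) (by rw [← hq, mul_comm])

theorem pair_inj {a b c d : PowerSeries k} : (pair a b : ring k r) = pair c d ↔ a = c ∧ b = d := by
  rw [← sub_eq_zero, show (pair a b - pair c d : ring k r) = pair (a - c) (b - d) by
    simp only [pair, map_sub]; ring, pair_eq_zero, sub_eq_zero, sub_eq_zero]

theorem y_sq : y k r ^ 2 = x k r ^ (r + 1) := by
  rw [← map_pow, ← map_pow, Ideal.Quotient.eq]
  exact Ideal.mem_span_singleton_self _

theorem xMap_X : xMap k r PowerSeries.X = x k r := by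
  simp only [xMap, AlgHom.comp_apply, PowerSeries.substAlgHom_X]
  rfl

theorem pair_X_zero : (pair PowerSeries.X 0 : ring k r) = x k r := by rw [pair_eq_xMap, xMap_X]

theorem pair_zero_one : (pair 0 1 : ring k r) = y k r := by simp [pair]

theorem pair_mul (a b c d : PowerSeries k) :
    (pair a b * pair c d : ring k r) =
      pair (a * c + b * d * PowerSeries.X ^ (r + 1)) (a * d + b * c) := by
  simp only [pair, map_add, map_mul, map_pow, xMap_X, ← y_sq]
  ring

theorem pair_add (a b c d : PowerSeries k) :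
    (pair a b + pair c d : ring k r) = pair (a + c) (b + d) := by
  simp only [pair, map_add]; ring

theorem pair_neg (a b : PowerSeries k) : (-pair a b : ring k r) = pair (-a) (-b) := by
  simp only [pair, map_neg]; ring

theorem pair_sub (a b c d : PowerSeries k) :
    (pair a b - pair c d : ring k r) = pair (a - c) (b - d) := by
  simp only [pair, map_sub]; ring

theorem pair_smul (t : k) (a b : PowerSeries k) :
    (t • pair a b : ring k r) = pair (t • a) (t • b) := by
  simp only [pair, map_smul, smul_add, smul_mul_assoc]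

/-- The coordinates. -/
def equiv (k : Type u) [Field k] (r : ℕ) : (PowerSeries k × PowerSeries k) ≃ₗ[k] ring k r :=
  LinearEquiv.ofBijective
    ((xMap k r).toLinearMap.coprod (LinearMap.mulRight k (y k r) ∘ₗ (xMap k r).toLinearMap))
    ⟨fun p q h => Prod.ext_iff.2 (pair_inj.1 h), fun z => by
      obtain ⟨a, b, h⟩ := exists_pair z; exact ⟨(a, b), h⟩⟩

/-- The coefficient `a` of `a(x) + b(x) y`. -/
def cA : ring k r →ₗ[k] PowerSeries k := LinearMap.fst k _ _ ∘ₗ (equiv k r).symm.toLinearMap

/-- The coefficient `b` of `a(x) + b(x) y`. -/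
def cB : ring k r →ₗ[k] PowerSeries k := LinearMap.snd k _ _ ∘ₗ (equiv k r).symm.toLinearMap

theorem equiv_symm_pair (a b : PowerSeries k) : (equiv k r).symm (pair a b) = (a, b) :=
  (equiv k r).symm_apply_apply (a, b)

@[simp] theorem cA_pair (a b : PowerSeries k) : cA (pair a b : ring k r) = a := by
  simp [cA, equiv_symm_pair]

@[simp] theorem cB_pair (a b : PowerSeries k) : cB (pair a b : ring k r) = b := by
  simp [cB, equiv_symm_pair]

theorem pair_cA_cB (z : ring k r) : pair (cA z) (cB z) = z := by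
  obtain ⟨a, b, rfl⟩ := exists_pair z; simp

instance : Nontrivial (ring k r) :=
  ⟨⟨pair 1 0, pair 0 0, fun h => one_ne_zero (pair_inj.1 h).1⟩⟩

instance : IsLocalRing (ring k r) :=
  IsLocalRing.of_surjective' (Ideal.Quotient.mk (Ideal.span {eqn k r})) Ideal.Quotient.mk_surjective

/-- The value at the closed point. -/
def cst (z : ring k r) : k := PowerSeries.constantCoeff (cA z)

theorem cst_mul (z w : ring k r) : cst (z * w) = cst z * cst w := by
  obtain ⟨a, b, rfl⟩ := exists_pair z
  obtain ⟨c, d, rfl⟩ := exists_pair w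
  simp [cst, pair_mul]

theorem cst_algebraMap (t : k) : cst (algebraMap k (ring k r) t) = t := by
  rw [← AlgHom.commutes (xMap k r) t, ← pair_eq_xMap, cst, cA_pair]
  exact PowerSeries.constantCoeff_C t

theorem cst_one : cst (1 : ring k r) = 1 := by
  rw [show (1 : ring k r) = algebraMap k _ 1 from (map_one _).symm, cst_algebraMap]

theorem isUnit_iff (z : ring k r) : IsUnit z ↔ cst z ≠ 0 := by
  refine ⟨fun h => ?_, fun h => ?_⟩
  · obtain ⟨w, hw⟩ := h.exists_right_inv
    intro h0
    simpa [cst_mul, h0, cst_one] using congrArg cst hw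
  · obtain ⟨a, b, rfl⟩ := exists_pair z
    simp only [cst, cA_pair] at h
    have ha : IsUnit a := PowerSeries.isUnit_iff_constantCoeff.2 (isUnit_iff_ne_zero.2 h)
    have hn : IsUnit (a * a - b * b * PowerSeries.X ^ (r + 1)) := by
      rw [PowerSeries.isUnit_iff_constantCoeff]
      simp [h]
    obtain ⟨c, hc⟩ := hn.exists_right_inv
    refine IsUnit.of_mul_eq_one (pair (a * c) (-(b * c))) ?_
    rw [pair_mul, show (1 : ring k r) = pair 1 0 by simp [pair], pair_inj]
    exact ⟨by rw [← hc]; ring, by ring⟩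

theorem mem_maximalIdeal {z : ring k r} :
    z ∈ IsLocalRing.maximalIdeal (ring k r) ↔ cst z = 0 := by
  rw [IsLocalRing.mem_maximalIdeal, mem_nonunits_iff, isUnit_iff, not_not]

theorem x_mul (z : ring k r) :
    x k r * z = pair (PowerSeries.X * cA z) (PowerSeries.X * cB z) := by
  conv_lhs => rw [← pair_cA_cB z, ← pair_X_zero, pair_mul]
  simp

theorem y_mul (z : ring k r) :
    y k r * z = pair (cB z * PowerSeries.X ^ (r + 1)) (cA z) := by
  conv_lhs => rw [← pair_cA_cB z, ← pair_zero_one, pair_mul]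
  simp

theorem x_mem_nonZeroDivisors : x k r ∈ nonZeroDivisors (ring k r) := by
  rw [mem_nonZeroDivisors_iff_left]
  intro z hz
  rw [x_mul, pair_eq_zero] at hz
  rw [← pair_cA_cB z, pair_eq_zero]
  exact ⟨(mul_eq_zero.1 hz.1).resolve_left PowerSeries.X_ne_zero,
    (mul_eq_zero.1 hz.2).resolve_left PowerSeries.X_ne_zero⟩

theorem y_mem_nonZeroDivisors : y k r ∈ nonZeroDivisors (ring k r) := by
  rw [mem_nonZeroDivisors_iff_left]
  intro z hz
  rw [y_mul, pair_eq_zero] at hz
  rw [← pair_cA_cB z, pair_eq_zero]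
  exact ⟨hz.2, (mul_eq_zero.1 hz.1).resolve_right (pow_ne_zero _ PowerSeries.X_ne_zero)⟩

theorem mem_span_x_pow {z : ring k r} {n : ℕ} :
    z ∈ Ideal.span {x k r ^ n} ↔ PowerSeries.X ^ n ∣ cA z ∧ PowerSeries.X ^ n ∣ cB z := by
  have e : ∀ w : ring k r, x k r ^ n * w =
      pair (PowerSeries.X ^ n * cA w) (PowerSeries.X ^ n * cB w) := fun w => by
    conv_lhs => rw [← pair_cA_cB w]
    simp only [pair, map_mul, map_pow, xMap_X]
    ring
  rw [Ideal.mem_span_singleton]
  refine ⟨fun ⟨w, hw⟩ => ?_, fun ⟨⟨a, ha⟩, ⟨b, hb⟩⟩ => ⟨pair a b, ?_⟩⟩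
  · rw [hw, e, cA_pair, cB_pair]
    exact ⟨dvd_mul_right _ _, dvd_mul_right _ _⟩
  · rw [e, cA_pair, cB_pair, ← ha, ← hb, pair_cA_cB]

theorem mem_span_x {z : ring k r} :
    z ∈ Ideal.span {x k r} ↔
      PowerSeries.constantCoeff (cA z) = 0 ∧ PowerSeries.constantCoeff (cB z) = 0 := by
  rw [← pow_one (x k r), mem_span_x_pow, pow_one, PowerSeries.X_dvd_iff, PowerSeries.X_dvd_iff]

theorem maximalIdeal_eq :
    IsLocalRing.maximalIdeal (ring k r) = Ideal.span {x k r, y k r} := by
  refine le_antisymm (fun z hz => ?_) (Ideal.span_le.2 ?_)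
  · rw [mem_maximalIdeal, cst] at hz
    obtain ⟨a', ha⟩ := PowerSeries.X_dvd_iff.2 hz
    rw [← pair_cA_cB z, pair, ha, map_mul, xMap_X]
    exact Ideal.add_mem _ (Ideal.mul_mem_right _ _ (Ideal.subset_span (by simp)))
      (Ideal.mul_mem_left _ _ (Ideal.subset_span (by simp)))
  · rintro w (rfl | rfl) <;> rw [SetLike.mem_coe, mem_maximalIdeal]
    · rw [← pair_X_zero]; simp [cst]
    · rw [← pair_zero_one]; simp [cst]

theorem eq_zero_of_forall_mem_span_x_pow {z : ring k r}
    (h : ∀ n : ℕ, z ∈ Ideal.span {x k r ^ n}) : z = 0 := by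
  rw [← pair_cA_cB z, pair_eq_zero]
  constructor <;> ext n
  · rw [PowerSeries.X_pow_dvd_iff.1 (mem_span_x_pow.1 (h (n + 1))).1 n (by omega), map_zero]
  · rw [PowerSeries.X_pow_dvd_iff.1 (mem_span_x_pow.1 (h (n + 1))).2 n (by omega), map_zero]

theorem sq_mem_span_x {z : ring k r} (hz : cst z = 0) : z ^ 2 ∈ Ideal.span {x k r} := by
  rw [mem_span_x, ← pair_cA_cB z, sq, pair_mul, cA_pair, cB_pair]
  simp only [cst] at hz
  simp [hz]

theorem cst_xMap (a : PowerSeries k) :
    cst (xMap k r a : ring k r) = PowerSeries.constantCoeff a := by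
  rw [← pair_eq_xMap, cst, cA_pair]

theorem cst_algHom_X (ψ : PowerSeries k →ₐ[k] ring k r) : cst (ψ PowerSeries.X) = 0 := by
  by_contra h
  have h1 : IsUnit (ψ (PowerSeries.X - PowerSeries.C (cst (ψ PowerSeries.X)))) :=
    IsUnit.map ψ (PowerSeries.isUnit_iff_constantCoeff.2 (by simpa using h))
  rw [isUnit_iff, map_sub, show ψ (PowerSeries.C (cst (ψ PowerSeries.X))) = _ from ψ.commutes _,
    cst, map_sub, map_sub] at h1
  exact h1 (sub_eq_zero.2 (cst_algebraMap (r := r) _).symm)

theorem powerSeries_algHom_ext {ψ₁ ψ₂ : PowerSeries k →ₐ[k] ring k r}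
    (h : ψ₁ PowerSeries.X = ψ₂ PowerSeries.X) : ψ₁ = ψ₂ := by
  apply AlgHom.ext
  intro f
  rw [← sub_eq_zero]
  refine eq_zero_of_forall_mem_span_x_pow fun n => ?_
  obtain ⟨g, hg⟩ : PowerSeries.X ^ (2 * n) ∣
      f - ((PowerSeries.trunc (2 * n) f : Polynomial k) : PowerSeries k) :=
    PowerSeries.X_pow_dvd_iff.2 fun m hm => by simp [PowerSeries.coeff_trunc, hm]
  have hp : ψ₁ ((PowerSeries.trunc (2 * n) f : Polynomial k) : PowerSeries k) =
      ψ₂ ((PowerSeries.trunc (2 * n) f : Polynomial k) : PowerSeries k) := by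
    have e := Polynomial.algHom_ext (f := ψ₁.comp (Polynomial.coeToPowerSeries.algHom k))
      (g := ψ₂.comp (Polynomial.coeToPowerSeries.algHom k)) (by simpa using h)
    have e' := congrArg (fun F : Polynomial k →ₐ[k] ring k r => F (PowerSeries.trunc (2 * n) f)) e
    simpa using e'
  have hmem : ψ₁ PowerSeries.X ^ (2 * n) ∈ Ideal.span {x k r ^ n} := by
    rw [pow_mul, ← Ideal.span_singleton_pow]
    exact Ideal.pow_mem_pow (sq_mem_span_x (cst_algHom_X ψ₁)) n
  have e : f = ((PowerSeries.trunc (2 * n) f : Polynomial k) : PowerSeries k) +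
      PowerSeries.X ^ (2 * n) * g := by rw [← hg, add_sub_cancel]
  rw [e, map_add, map_add, map_mul, map_mul, map_pow, map_pow, hp, ← h, add_sub_add_left_eq_sub,
    ← mul_sub]
  exact Ideal.mul_mem_right _ _ hmem

/-- An algebra map out of `A_r` is determined on the classes of `x` and `y`. -/
theorem algHom_ext' {s : ℕ} {ψ₁ ψ₂ : ring k r →ₐ[k] ring k s}
    (hx : ψ₁ (x k r) = ψ₂ (x k r)) (hy : ψ₁ (y k r) = ψ₂ (y k r)) : ψ₁ = ψ₂ := by
  have h := powerSeries_algHom_ext (ψ₁ := ψ₁.comp (xMap k r)) (ψ₂ := ψ₂.comp (xMap k r))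
    (by simp only [AlgHom.comp_apply, xMap_X, hx])
  apply AlgHom.ext
  intro z
  obtain ⟨a, b, rfl⟩ := exists_pair z
  simp only [pair, map_add, map_mul, hy]
  rw [show ψ₁ (xMap k r a) = ψ₂ (xMap k r a) from DFunLike.congr_fun h a,
    show ψ₁ (xMap k r b) = ψ₂ (xMap k r b) from DFunLike.congr_fun h b]

instance : IsLocalHom (algebraMap k (ring k r)) :=
  ⟨fun t ht => isUnit_iff_ne_zero.2 fun h => by simp [h] at ht⟩

/-- Length over `A_r` is dimension over `k`. -/
theorem length_eq_finrank (I : Ideal (ring k r)) [Module.Finite k (ring k r ⧸ I)] :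
    Module.length (ring k r) (ring k r ⧸ I) = Module.finrank k (ring k r ⧸ I) := by
  have h := IsLocalRing.length_restrictScalars k (ring k r) (ring k r ⧸ I)
  have h1 : Module.length (IsLocalRing.ResidueField k) (IsLocalRing.ResidueField (ring k r)) = 1 := by
    rw [← Module.length_eq_of_surjective (S := k) (R := IsLocalRing.ResidueField k)
      IsLocalRing.residue_surjective]
    let e : IsLocalRing.ResidueField (ring k r) ≃ₗ[k] k :=
      (LinearEquiv.ofBijective (Algebra.linearMap k (IsLocalRing.ResidueField (ring k r)))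
        ⟨(algebraMap k (IsLocalRing.ResidueField (ring k r))).injective, fun z => by
          obtain ⟨z, rfl⟩ := IsLocalRing.residue_surjective z
          refine ⟨cst z, ?_⟩
          show IsLocalRing.residue _ (algebraMap k (ring k r) (cst z)) = _
          refine Ideal.Quotient.eq.2 ?_
          rw [mem_maximalIdeal, cst, map_sub, map_sub]
          exact sub_eq_zero.2 (cst_algebraMap (r := r) _)⟩).symm
    rw [e.length_eq, Module.length_eq_finrank, Module.finrank_self]
    rfl
  rw [h1, mul_one] at h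
  rw [← h, Module.length_eq_finrank]

end Groth.Agent.ArSing32
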