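import Groth.Agent.ArSing32.Lift

/-!
# Involutions of `A_r` up to conjugation
-/

set_option autoImplicit false

noncomputable section

namespace Groth.Agent.ArSing32

open PowerSeries

universe u

variable {k : Type u} [Field k]

theorem constantCoeff_algHom {r : ℕ} (ψ : ArSing.ring k r →ₐ[k] PowerSeries k)
    (z : ArSing.ring k r) : constantCoeff (ψ z) = cst z := by
  set c := constantCoeff (ψ z)
  have hnu : ¬ IsUnit (z - algebraMap k (ArSing.ring k r) c) := fun h => by
    have h' := h.map ψ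
    rw [map_sub, AlgHom.commutes, PowerSeries.isUnit_iff_constantCoeff] at h'
    simp [c] at h'
  rw [isUnit_iff, not_not, cst, map_sub, map_sub] at hnu
  exact ((sub_eq_zero.1 hnu).trans (cst_algebraMap c)).symm

theorem cst_x {r : ℕ} : cst (ArSing.x k r) = 0 := by rw [← pair_X_zero]; simp [cst]

theorem cst_y {r : ℕ} : cst (ArSing.y k r) = 0 := by rw [← pair_zero_one]; simp [cst]

theorem X_pow_dvd_of_dvd_sq {n : ℕ} {f : PowerSeries k} (h : X ^ (2 * n) ∣ f ^ 2) : X ^ n ∣ f := by
  induction n generalizing f with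
  | zero => simp
  | succ n ih =>
    obtain ⟨g, rfl⟩ : X ∣ f :=
      X_prime.dvd_of_dvd_pow ((dvd_pow_self X (by omega)).trans h)
    rw [mul_pow, show 2 * (n + 1) = 2 + 2 * n by ring, pow_add] at h
    rw [pow_succ']
    exact mul_dvd_mul_left _ (ih ((mul_dvd_mul_iff_left (pow_ne_zero 2 X_ne_zero)).1 h))

theorem map_pair {r : ℕ} (ψ : ArSing.ring k r →ₐ[k] PowerSeries k)
    (hψ : constantCoeff (ψ (ArSing.x k r)) = 0) (a b : PowerSeries k) :
    ψ (pair a b) = subst (ψ (ArSing.x k r)) a + subst (ψ (ArSing.x k r)) b * ψ (ArSing.y k r) := by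
  have h : ψ.comp (ArSing.xMap k r) = comp _ hψ :=
    ps_algHom_ext (by rw [AlgHom.comp_apply, xMap_X, comp_X])
  have h' : ∀ c, ψ (ArSing.xMap k r c) = subst (ψ (ArSing.x k r)) c := fun c =>
    (DFunLike.congr_fun h c).trans (comp_apply hψ c)
  rw [pair, map_add, map_mul, h', h']

theorem conj_even (h2 : (2 : k) ≠ 0) (l : ℕ)
    (σ : ArSing.ring k (2 * l) ≃ₐ[k] ArSing.ring k (2 * l)) (hσ : ∀ a, σ (σ a) = a)
    (hne : σ ≠ AlgEquiv.refl) :
    ∃ φ : ArSing.ring k (2 * l) ≃ₐ[k] ArSing.ring k (2 * l),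
      φ.symm (σ (φ (ArSing.x k _))) = ArSing.x k _ ∧
      φ.symm (σ (φ (ArSing.y k _))) = -ArSing.y k _ := by
  let ψ : ArSing.ring k (2 * l) →ₐ[k] PowerSeries k := (nu l).comp σ.toAlgHom
  have hψ : ∀ z, ψ z = nu l (σ z) := fun z => rfl
  set X' := ψ (ArSing.x k (2 * l))
  set Y' := ψ (ArSing.y k (2 * l))
  have hX0 : constantCoeff X' = 0 := (constantCoeff_algHom ψ _).trans cst_x
  have hY0 : constantCoeff Y' = 0 := (constantCoeff_algHom ψ _).trans cst_y
  have hrel : Y' ^ 2 = X' ^ (2 * l + 1) := by rw [← map_pow, y_sq, map_pow]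
  obtain ⟨s, hs0, hs1, hs2, hs3⟩ :
      ∃ s, constantCoeff s = 0 ∧ coeff 1 s ≠ 0 ∧ s ^ 2 = X' ∧ s ^ (2 * l + 1) = Y' := by
    rcases Nat.eq_zero_or_pos l with hl | hl
    · subst hl
      refine ⟨Y', hY0, fun h1 => ?_, by simpa using hrel, by simp⟩
      obtain ⟨a, b, hz⟩ := exists_pair (σ (ArSing.y k (2 * 0)))
      have e : ψ (pair a b) = X := by
        rw [hz, hψ, hσ, nu_y]; simp
      rw [map_pair ψ hX0] at e
      change subst X' a + subst X' b * Y' = X at e
      obtain ⟨v, hv⟩ := X_dvd_iff.2 hY0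
      have e' := congrArg (coeff 1) e
      rw [map_add, coeff_one_subst hX0, coeff_one_X, PowerSeries.coeff_one_mul, h1, hY0] at e'
      have hX1 : coeff 1 X' = 0 := by
        rw [show X' = Y' * Y' by rw [← sq, hrel]; simp, PowerSeries.coeff_one_mul, h1, hY0]
        ring
      rw [hX1] at e'
      simp at e'
    · have hX1 : coeff 1 X' = 0 := by
        have h := X_pow_dvd_iff.1 (nu_mem l (σ (ArSing.x k (2 * l)))) 1 (by omega)
        rw [map_sub, show (1 : ℕ) = 2 * 0 + 1 from rfl, (coeff_rescale_neg_one _ 0).2, sub_eq_zero,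
          neg_eq_iff_add_eq_zero, ← two_mul, mul_eq_zero] at h
        exact h.resolve_left h2
      obtain ⟨u, hu⟩ : X ^ 2 ∣ X' := X_pow_dvd_iff.2 fun m hm => by
        rcases m with _ | _ | m
        · rwa [coeff_zero_eq_constantCoeff]
        · exact hX1
        · omega
      obtain ⟨w, hw⟩ : X ^ (2 * l + 1) ∣ Y' := X_pow_dvd_of_dvd_sq (by
        rw [hrel, hu, mul_pow, ← pow_mul]; exact dvd_mul_right _ _)
      have hu0 : constantCoeff u ≠ 0 := fun h0 => by
        obtain ⟨a, b, hz⟩ := exists_pair (σ (ArSing.x k (2 * l)))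
        have e : ψ (pair a b) = X ^ 2 := by rw [hz, hψ, hσ, nu_x]
        rw [map_pair ψ hX0] at e
        change subst X' a + subst X' b * Y' = X ^ 2 at e
        obtain ⟨v, hv⟩ := X_dvd_iff.2 h0
        obtain ⟨g, hg⟩ : X ∣ a - C (constantCoeff a) := X_dvd_iff.2 (by simp)
        have hY3 : X ^ 3 ∣ Y' := dvd_trans (pow_dvd_pow X (show 3 ≤ 2 * l + 1 by omega)) ⟨w, hw⟩
        have hX3 : X ^ 3 ∣ X' := ⟨v, by rw [hu, hv]; ring⟩
        rw [← comp_apply hX0 a, sub_eq_iff_eq_add.1 hg, map_add, map_mul, comp_X,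
          show comp X' hX0 (C (constantCoeff a)) = C (constantCoeff a) from
            (comp X' hX0).commutes _] at e
        have h3 := X_pow_dvd_iff.1 (dvd_add (hX3.mul_right (comp X' hX0 g))
          (hY3.mul_left (subst X' b))) 2 (by omega)
        have e' := congrArg (coeff 2) e
        rw [add_right_comm, map_add, h3, coeff_C, coeff_X_pow] at e'
        simp at e'
      have hw2 : w ^ 2 = u ^ (2 * l + 1) := by
        refine mul_left_cancel₀ (pow_ne_zero (2 * (2 * l + 1)) (X_ne_zero (R := k))) ?_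
        rw [hu, hw] at hrel
        linear_combination hrel
      obtain ⟨u', hu'⟩ := (PowerSeries.isUnit_iff_constantCoeff.2
        (isUnit_iff_ne_zero.2 hu0)).exists_right_inv
      have hul : u ^ l * u' ^ l = 1 := by rw [← mul_pow, hu', one_pow]
      have hsq : (X * w * u' ^ l) ^ 2 = X' := by
        rw [hu]
        linear_combination (X ^ 2 * u' ^ (2 * l)) * hw2 + (X ^ 2 * u * (u ^ l * u' ^ l + 1)) * hul
      refine ⟨X * w * u' ^ l, by simp, ?_, hsq, ?_⟩
      · rw [mul_assoc, coeff_succ_X_mul, coeff_zero_eq_constantCoeff, map_mul, map_pow]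
        refine mul_ne_zero (fun h => ?_) (pow_ne_zero _ fun h => ?_)
        · have := congrArg constantCoeff hw2
          rw [map_pow, map_pow, h, zero_pow two_ne_zero] at this
          exact pow_ne_zero _ hu0 this.symm
        · have := congrArg constantCoeff hu'
          simp [h] at this
      · rw [pow_succ, pow_mul, hsq, hw, hu]
        linear_combination (X ^ (2 * l + 1) * w) * hul
  have hOs : OddC l s := by
    rw [OddC, X_pow_dvd_iff]
    intro m hm
    rcases Nat.even_or_odd' m with ⟨i, rfl | rfl⟩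
    swap
    · rw [map_add, (coeff_rescale_neg_one s i).2, neg_add_cancel]
    obtain ⟨d, hd⟩ : X ∣ rescale (-1 : k) s - s :=
      X_dvd_iff.2 (by rw [map_sub, constantCoeff_rescale, sub_self])
    have hd0 : IsUnit d := by
      rw [PowerSeries.isUnit_iff_constantCoeff, isUnit_iff_ne_zero]
      intro h0
      have e := congrArg (coeff 1) hd
      rw [coeff_succ_X_mul, coeff_zero_eq_constantCoeff_apply, h0, map_sub, show (1 : ℕ) = 2 * 0 + 1
        from rfl, (coeff_rescale_neg_one s 0).2, sub_eq_zero, neg_eq_iff_add_eq_zero, ← two_mul,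
        mul_eq_zero] at e
      exact hs1 (e.resolve_left h2)
    have h : X ^ (2 * l) ∣ X * (rescale (-1 : k) s + s) := by
      have h' := nu_mem l (σ (ArSing.x k (2 * l)))
      change InS l X' at h'
      rw [← hs2, InS, map_pow] at h'
      rw [← hd0.dvd_mul_right]
      refine h'.trans (dvd_of_eq ?_)
      linear_combination (rescale (-1 : k) s + s) * hd
    simpa [coeff_succ_X_mul] using X_pow_dvd_iff.1 h (2 * i + 1) (by omega)
  have hlift : ∀ z, nu l (σ z) = subst s (nu l z) := by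
    have h : ψ = (comp s hs0).comp (nu l) := by
      apply algHom_ext_ps
      · show X' = comp s hs0 (nu l (ArSing.x k (2 * l)))
        rw [nu_x, map_pow, comp_X, hs2]
      · show Y' = comp s hs0 (nu l (ArSing.y k (2 * l)))
        rw [nu_y, map_pow, comp_X, hs3]
    intro z
    exact (DFunLike.congr_fun h z).trans (comp_apply hs0 _)
  have hinv : subst s s = X := by
    have ex : ∀ z, subst s (subst s (nu l z)) = nu l z := fun z => by rw [← hlift, ← hlift, hσ]
    have ex2 := ex (ArSing.x k _)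
    have ey := ex (ArSing.y k _)
    rw [nu_x] at ex2
    rw [nu_y] at ey
    rw [← comp_apply hs0, ← comp_apply hs0, map_pow, map_pow, comp_X, comp_apply] at ex2 ey
    rw [pow_succ, pow_mul, ex2, ← pow_mul, pow_succ] at ey
    exact mul_left_cancel₀ (pow_ne_zero _ X_ne_zero) ey
  rcases sq_eq_one_iff.1 (coeff_one_sq_eq_one hs0 hinv) with hc | hc
  · refine absurd ?_ hne
    ext z
    refine nu_injective l ?_
    rw [hlift, eq_X_of_involution h2 hs0 hinv hc, X_subst]
    rfl
  · have hT0 : constantCoeff (lin (-1 : k) s) = 0 := constantCoeff_lin hs0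
    have hT1 : coeff 1 (lin (-1 : k) s) ≠ 0 := hc ▸ coeff_one_lin_self h2 hs0 hinv
    have hOT : OddC l (lin (-1 : k) s) := by
      have e : rescale (-1 : k) (lin (-1 : k) s) + lin (-1 : k) s =
          -(C (2⁻¹ : k)) * (rescale (-1 : k) s + s) := by
        have hC : ∀ a : k, rescale (-1 : k) (C a) = C a := fun a => by
          ext n
          rcases n with _ | n <;> simp [coeff_rescale, coeff_C]
        simp only [lin, map_mul, map_add, rescale_X, hC, map_neg, map_one]
        ring
      rw [OddC, e]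
      exact hOs.mul_left _
    obtain ⟨φ, hφ⟩ := exists_aut_even h2 l hT0 hT1 hOT
    have key : ∀ z, nu l (σ (φ z)) = subst (-lin (-1 : k) s) (nu l z) := fun z => by
      rw [hlift, hφ, subst_subst hT0 hs0, subst_lin (by norm_num) hs0 hinv, map_neg, map_one,
        neg_one_mul]
    have hN0 : constantCoeff (-lin (-1 : k) s) = 0 := by rw [map_neg, hT0, neg_zero]
    refine ⟨φ, ?_, ?_⟩
    · rw [AlgEquiv.symm_apply_eq]
      refine nu_injective l ?_
      rw [key, hφ, nu_x, ← comp_apply hN0, ← comp_apply hT0, map_pow, map_pow, comp_X, comp_X, neg_sq]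
    · rw [AlgEquiv.symm_apply_eq]
      refine nu_injective l ?_
      rw [map_neg φ, map_neg (nu l), key, hφ, nu_y, ← comp_apply hN0, ← comp_apply hT0, map_pow,
        map_pow, comp_X, comp_X, Odd.neg_pow ⟨l, rfl⟩]

theorem exists_branch_lift (h2 : (2 : k) ≠ 0) (l : ℕ)
    (σ : ArSing.ring k (2 * l + 1) ≃ₐ[k] ArSing.ring k (2 * l + 1)) (hσ : ∀ a, σ (σ a) = a)
    (br : ArSing.ring k (2 * l + 1) →ₐ[k] PowerSeries k)
    (hbr : br (ArSing.x k (2 * l + 1)) = X) :
    ∃ F, constantCoeff F = 0 ∧ coeff 1 F ≠ 0 ∧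
      ((∀ z, br (σ z) = subst F (brP l z)) ∨ ∀ z, br (σ z) = subst F (brM l z)) := by
  let ψ : ArSing.ring k (2 * l + 1) →ₐ[k] PowerSeries k := br.comp σ.toAlgHom
  set F := ψ (ArSing.x k (2 * l + 1))
  have hF0 : constantCoeff F = 0 := (constantCoeff_algHom ψ _).trans cst_x
  have hrel : ψ (ArSing.y k (2 * l + 1)) ^ 2 = (F ^ (l + 1)) ^ 2 := by
    rw [← map_pow, y_sq, map_pow, ← pow_mul]
    congr 1
    ring
  refine ⟨F, hF0, fun h1 => ?_, ?_⟩
  · have key : ∀ z, ∃ h, ψ z = subst F h := fun z => by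
      rcases sq_eq_sq_iff_eq_or_eq_neg.1 hrel with he | he
      · refine ⟨brP l z, ?_⟩
        have h : ψ = (comp F hF0).comp (brP l) := by
          apply algHom_ext_ps
          · show F = comp F hF0 (brP l (ArSing.x k (2 * l + 1)))
            rw [brP_x, comp_X]
          · show ψ (ArSing.y k (2 * l + 1)) = comp F hF0 (brP l (ArSing.y k (2 * l + 1)))
            rw [brP_y, map_pow, comp_X, he]
        exact (DFunLike.congr_fun h z).trans (comp_apply hF0 _)
      · refine ⟨brM l z, ?_⟩
        have h : ψ = (comp F hF0).comp (brM l) := by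
          apply algHom_ext_ps
          · show F = comp F hF0 (brM l (ArSing.x k (2 * l + 1)))
            rw [brM_x, comp_X]
          · show ψ (ArSing.y k (2 * l + 1)) = comp F hF0 (brM l (ArSing.y k (2 * l + 1)))
            rw [brM_y, map_neg, map_pow, comp_X, he]
        exact (DFunLike.congr_fun h z).trans (comp_apply hF0 _)
    obtain ⟨h, hh⟩ := key (σ (ArSing.x k (2 * l + 1)))
    have e : br (σ (σ (ArSing.x k (2 * l + 1)))) = subst F h := hh
    rw [hσ, hbr] at e
    have e' := congrArg (coeff 1) e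
    rw [coeff_one_X, coeff_one_subst hF0, h1, mul_zero] at e'
    exact one_ne_zero e'
  · rcases sq_eq_sq_iff_eq_or_eq_neg.1 hrel with he | he
    · left
      have h : ψ = (comp F hF0).comp (brP l) := by
        apply algHom_ext_ps
        · show F = comp F hF0 (brP l (ArSing.x k (2 * l + 1)))
          rw [brP_x, comp_X]
        · show ψ (ArSing.y k (2 * l + 1)) = comp F hF0 (brP l (ArSing.y k (2 * l + 1)))
          rw [brP_y, map_pow, comp_X, he]
      exact fun z => (DFunLike.congr_fun h z).trans (comp_apply hF0 _)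
    · right
      have h : ψ = (comp F hF0).comp (brM l) := by
        apply algHom_ext_ps
        · show F = comp F hF0 (brM l (ArSing.x k (2 * l + 1)))
          rw [brM_x, comp_X]
        · show ψ (ArSing.y k (2 * l + 1)) = comp F hF0 (brM l (ArSing.y k (2 * l + 1)))
          rw [brM_y, map_neg, map_pow, comp_X, he]
      exact fun z => (DFunLike.congr_fun h z).trans (comp_apply hF0 _)

/-- `φ` transports `σ` to `(x, y) ↦ (u, v)`. -/
def ConjTo {r : ℕ} (σ : ArSing.ring k r ≃ₐ[k] ArSing.ring k r) (u v : ArSing.ring k r) : Prop :=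
  ∃ φ : ArSing.ring k r ≃ₐ[k] ArSing.ring k r,
    φ.symm (σ (φ (ArSing.x k r))) = u ∧ φ.symm (σ (φ (ArSing.y k r))) = v

theorem br_ext_iff (h2 : (2 : k) ≠ 0) {l : ℕ} {z w : ArSing.ring k (2 * l + 1)}
    (hP : brP l z = brP l w) (hM : brM l z = brM l w) : z = w :=
  brs_injective h2 l (Prod.ext hP hM)

theorem conj_odd (h2 : (2 : k) ≠ 0) (l : ℕ)
    (σ : ArSing.ring k (2 * l + 1) ≃ₐ[k] ArSing.ring k (2 * l + 1)) (hσ : ∀ a, σ (σ a) = a)
    (hne : σ ≠ AlgEquiv.refl) :
    ConjTo σ (ArSing.x k _) (-ArSing.y k _) ∨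
      ConjTo σ (-ArSing.x k _) ((-1 : k) ^ (l + 1) • ArSing.y k _) ∨
      ConjTo σ (-ArSing.x k _) ((-1 : k) ^ l • ArSing.y k _) ∨
      (l = 0 ∧ ConjTo σ (ArSing.y k _) (ArSing.x k _)) := by
  obtain ⟨f, hf0, hf1, hf⟩ := exists_branch_lift h2 l σ hσ (brP l) (brP_x l)
  obtain ⟨g, hg0, hg1, hg⟩ := exists_branch_lift h2 l σ hσ (brM l) (brM_x l)
  have hne0 : (2 * X ^ (l + 1) : PowerSeries k) ≠ 0 := by
    rw [← map_ofNat C]
    exact mul_ne_zero (by rwa [ne_eq, map_eq_zero_iff _ C_injective]) (pow_ne_zero _ X_ne_zero)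
  have hkill : ∀ (br : ArSing.ring k (2 * l + 1) →ₐ[k] PowerSeries k) (z : ArSing.ring k (2 * l + 1)),
      (∀ w, brP l (σ w) = subst f (br w)) → (∀ w, brM l (σ w) = subst g (br w)) → br z = 0 →
        z = 0 := fun br z hP hM hz => by
    refine σ.injective ((map_zero σ).symm ▸ br_ext_iff h2 ?_ ?_)
    · rw [hP, hz, map_zero, ← comp_apply hf0, map_zero]
    · rw [hM, hz, map_zero, ← comp_apply hg0, map_zero]
  have hfg : X ^ (l + 1) ∣ f - g := by
    have h := brs_mem l (σ (ArSing.x k (2 * l + 1)))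
    rcases hf with hf | hf <;> rcases hg with hg | hg <;>
      simpa only [hf, hg, brP_x, brM_x, subst_X' hf0, subst_X' hg0] using h
  have hcd : 0 < l → coeff 1 f = coeff 1 g := fun hl => by
    have h := X_pow_dvd_iff.1 hfg 1 (by omega)
    rwa [map_sub, sub_eq_zero] at h
  have hone : ∀ (a : k), a ^ 2 = 1 → a = 1 ∨ a = -1 := fun a ha => sq_eq_one_iff.1 ha
  rcases hf with hf | hf <;> rcases hg with hg | hg
  · exfalso
    have h := hkill (brP l) (ArSing.y k _ - ArSing.x k _ ^ (l + 1)) hf hg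
      (by rw [map_sub, map_pow, brP_x, brP_y, sub_self])
    have h' := congrArg (brM l) h
    rw [map_sub, map_pow, brM_x, brM_y, map_zero] at h'
    exact hne0 (by linear_combination -h')
  · -- the branches are preserved
    have hff : subst f f = X := by
      have h := hf (σ (ArSing.x k _))
      rwa [hσ, brP_x, hf, brP_x, subst_X' hf0, eq_comm] at h
    have hgg : subst g g = X := by
      have h := hg (σ (ArSing.x k _))
      rwa [hσ, brM_x, hg, brM_x, subst_X' hg0, eq_comm] at h
    set c := coeff 1 f with hcdef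
    set d := coeff 1 g with hddef
    have hc2 : c ^ 2 = 1 := coeff_one_sq_eq_one hf0 hff
    have hd2 : d ^ 2 = 1 := coeff_one_sq_eq_one hg0 hgg
    have hP0 := constantCoeff_lin (ξ := c) hf0
    have hQ0 := constantCoeff_lin (ξ := d) hg0
    have hPQ : X ^ (l + 1) ∣ lin c f - lin d g := by
      rcases Nat.eq_zero_or_pos l with rfl | hl
      · rw [zero_add, pow_one, X_dvd_iff, map_sub, hP0, hQ0, sub_self]
      · rw [hcd hl]
        exact dvd_lin_sub hfg
    obtain ⟨φ, hφ⟩ := exists_aut_odd h2 l hP0 hQ0 (coeff_one_lin_self h2 hf0 hff)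
      (coeff_one_lin_self h2 hg0 hgg) hPQ
    have hxP : brP l (σ (φ (ArSing.x k _))) = C c * brP l (φ (ArSing.x k _)) := by
      rw [hf, (hφ _).1, brP_x, subst_X' hP0, subst_lin hc2 hf0 hff]
    have hxM : brM l (σ (φ (ArSing.x k _))) = C d * brM l (φ (ArSing.x k _)) := by
      rw [hg, (hφ _).2, brM_x, subst_X' hQ0, subst_lin hd2 hg0 hgg]
    have hyP : brP l (σ (φ (ArSing.y k _))) = C c ^ (l + 1) * brP l (φ (ArSing.y k _)) := by
      rw [hf, (hφ _).1, brP_y, ← comp_apply hP0, map_pow, comp_X, ← comp_apply hf0, map_pow,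
        comp_apply, subst_lin hc2 hf0 hff, mul_pow]
    have hyM : brM l (σ (φ (ArSing.y k _))) = C d ^ (l + 1) * brM l (φ (ArSing.y k _)) := by
      rw [hg, (hφ _).2, brM_y, ← comp_apply hQ0, map_neg, map_pow, comp_X, ← comp_apply hg0,
        map_neg, map_pow, comp_apply, subst_lin hd2 hg0 hgg, mul_pow, mul_neg]
    rcases hone c hc2 with hc | hc <;> rcases hone d hd2 with hd | hd
    · refine absurd ?_ hne
      ext z
      refine br_ext_iff h2 ?_ ?_
      · rw [hf, eq_X_of_involution h2 hf0 hff hc, X_subst]; rfl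
      · rw [hg, eq_X_of_involution h2 hg0 hgg hd, X_subst]; rfl
    · have hl : l = 0 := by
        by_contra hl
        have := hcd (Nat.pos_of_ne_zero hl)
        rw [hc, hd] at this
        exact h2 (by linear_combination this)
      subst hl
      refine Or.inr (Or.inr (Or.inr ⟨rfl, φ, ?_, ?_⟩))
      all_goals rw [AlgEquiv.symm_apply_eq]
      all_goals refine br_ext_iff h2 ?_ ?_
      · rw [hxP, (hφ _).1, (hφ _).1, brP_x, brP_y, hc, map_one, one_mul, pow_one]
      · rw [hxM, (hφ _).2, (hφ _).2, brM_x, brM_y, ← comp_apply hQ0, ← comp_apply hQ0, congrArg (⇑(C : k →+* PowerSeries k)) hd, map_neg, map_one, neg_one_mul, pow_one, map_neg]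
      · rw [hyP, (hφ _).1, (hφ _).1, brP_x, brP_y, hc, map_one, one_pow, one_mul, pow_one]
      · rw [hyM, (hφ _).2, (hφ _).2, brM_x, brM_y, ← comp_apply hQ0, ← comp_apply hQ0, congrArg (⇑(C : k →+* PowerSeries k)) hd, map_neg, map_one, pow_one, pow_one,
          neg_one_mul, map_neg, neg_neg]
    · have hl : l = 0 := by
        by_contra hl
        have := hcd (Nat.pos_of_ne_zero hl)
        rw [hc, hd] at this
        exact h2 (by linear_combination -this)
      subst hl
      refine Or.inr (Or.inr (Or.inr ⟨rfl, (negY k _).trans φ, ?_, ?_⟩))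
      all_goals rw [AlgEquiv.symm_apply_eq, AlgEquiv.trans_apply, AlgEquiv.trans_apply]
      all_goals simp only [negY_x, negY_y, map_neg]
      all_goals refine br_ext_iff h2 ?_ ?_
      all_goals simp only [map_neg]
      · rw [hxP, (hφ _).1, (hφ _).1, brP_x, brP_y, hc, map_neg, map_one, neg_one_mul, pow_one]
      · rw [hxM, (hφ _).2, (hφ _).2, brM_x, brM_y, ← comp_apply hQ0, ← comp_apply hQ0, congrArg (⇑(C : k →+* PowerSeries k)) hd, map_one, one_mul, pow_one, map_neg, neg_neg]
      · rw [hyP, (hφ _).1, (hφ _).1, brP_x, brP_y, hc, map_neg, map_one, pow_one, pow_one,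
          neg_one_mul, neg_neg]
      · rw [hyM, (hφ _).2, (hφ _).2, brM_x, brM_y, ← comp_apply hQ0, ← comp_apply hQ0, congrArg (⇑(C : k →+* PowerSeries k)) hd, map_one, one_pow, one_mul, pow_one, map_neg, neg_neg]
    · refine Or.inr (Or.inl ⟨φ, ?_, ?_⟩)
      all_goals rw [AlgEquiv.symm_apply_eq]
      all_goals refine br_ext_iff h2 ?_ ?_
      · rw [hxP, hc, map_neg, map_one, map_neg φ, map_neg (brP l), neg_one_mul]
      · rw [hxM, hd, map_neg, map_one, map_neg φ, map_neg (brM l), neg_one_mul]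
      · rw [hyP, hc, map_smul φ, map_smul, smul_eq_C_mul, map_pow]
      · rw [hyM, hd, map_smul φ, map_smul, smul_eq_C_mul, map_pow]
  · -- the branches are exchanged
    have hfg' : subst f g = X := by
      have h := hf (σ (ArSing.x k _))
      rwa [hσ, brP_x, hg, brP_x, subst_X' hg0, eq_comm] at h
    have hgf' : subst g f = X := by
      have h := hg (σ (ArSing.x k _))
      rwa [hσ, brM_x, hf, brM_x, subst_X' hf0, eq_comm] at h
    set c := coeff 1 f with hcdef
    set d := coeff 1 g with hddef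
    have hdc : d * c = 1 := by rw [hddef, hcdef, ← coeff_one_subst hf0, hfg', coeff_one_X]
    obtain ⟨ξ, hξ2, hξc, hξl⟩ : ∃ ξ : k, ξ ^ 2 = 1 ∧ 1 + ξ * c ≠ 0 ∧ (0 < l → ξ = c) := by
      by_cases hc : c = -1
      · refine ⟨-1, by norm_num, ?_, fun _ => hc.symm⟩
        rw [hc, mul_neg, mul_one, neg_neg, one_add_one_eq_two]
        exact h2
      · refine ⟨1, one_pow 2, fun h => hc (by linear_combination h), fun hl => ?_⟩
        have := hcd hl
        exact ((hone c (by rw [sq]; nth_rw 1 [this]; exact hdc)).resolve_right hc).symm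
    have hξd : 1 + ξ * d ≠ 0 := fun h => hξc (by
      linear_combination (c * ξ) * h - ξ ^ 2 * hdc + (-1 : k) * hξ2)
    have hP0 := constantCoeff_lin (ξ := ξ) hf0
    have hQ0 := constantCoeff_lin (ξ := ξ) hg0
    obtain ⟨φ, hφ⟩ := exists_aut_odd h2 l hP0 hQ0
      (by rw [coeff_one_lin]; exact mul_ne_zero (inv_ne_zero h2) hξc)
      (by rw [coeff_one_lin]; exact mul_ne_zero (inv_ne_zero h2) hξd) (dvd_lin_sub hfg)
    have hxP : brP l (σ (φ (ArSing.x k _))) = C ξ * brP l (φ (ArSing.x k _)) := by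
      rw [hf, (hφ _).2, brM_x, subst_X' hQ0, subst_lin hξ2 hf0 hfg', (hφ _).1, brP_x,
        subst_X' hP0]
    have hxM : brM l (σ (φ (ArSing.x k _))) = C ξ * brM l (φ (ArSing.x k _)) := by
      rw [hg, (hφ _).1, brP_x, subst_X' hP0, subst_lin hξ2 hg0 hgf', (hφ _).2, brM_x,
        subst_X' hQ0]
    have hyP : brP l (σ (φ (ArSing.y k _))) = -(C ξ ^ (l + 1) * brP l (φ (ArSing.y k _))) := by
      rw [hf, (hφ _).2, brM_y, ← comp_apply hQ0, map_neg, map_pow, comp_X, ← comp_apply hf0,
        map_neg, map_pow, comp_apply, subst_lin hξ2 hf0 hfg', (hφ _).1, brP_y, ← comp_apply hP0,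
        map_pow, comp_X, mul_pow]
    have hyM : brM l (σ (φ (ArSing.y k _))) = -(C ξ ^ (l + 1) * brM l (φ (ArSing.y k _))) := by
      rw [hg, (hφ _).1, brP_y, ← comp_apply hP0, map_pow, comp_X, ← comp_apply hg0, map_pow,
        comp_apply, subst_lin hξ2 hg0 hgf', (hφ _).2, brM_y, ← comp_apply hQ0, map_neg, map_pow,
        comp_X, mul_pow, mul_neg, neg_neg]
    rcases hone ξ hξ2 with rfl | rfl
    · refine Or.inl ⟨φ, ?_, ?_⟩
      all_goals rw [AlgEquiv.symm_apply_eq]
      all_goals refine br_ext_iff h2 ?_ ?_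
      · rw [hxP, map_one, one_mul]
      · rw [hxM, map_one, one_mul]
      · rw [hyP, map_one, one_pow, one_mul, map_neg φ, map_neg (brP l)]
      · rw [hyM, map_one, one_pow, one_mul, map_neg φ, map_neg (brM l)]
    · refine Or.inr (Or.inr (Or.inl ⟨φ, ?_, ?_⟩))
      all_goals rw [AlgEquiv.symm_apply_eq]
      all_goals refine br_ext_iff h2 ?_ ?_
      · rw [hxP, map_neg φ, map_neg (brP l), map_neg, map_one, neg_one_mul]
      · rw [hxM, map_neg φ, map_neg (brM l), map_neg, map_one, neg_one_mul]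
      · rw [hyP, map_smul φ, map_smul, smul_eq_C_mul, map_pow, pow_succ, map_neg, map_one]
        ring
      · rw [hyM, map_smul φ, map_smul, smul_eq_C_mul, map_pow, pow_succ, map_neg, map_one]
        ring
  · exfalso
    have h := hkill (brM l) (ArSing.y k _ + ArSing.x k _ ^ (l + 1)) hf hg
      (by rw [map_add, map_pow, brM_x, brM_y, neg_add_cancel])
    have h' := congrArg (brP l) h
    rw [map_add, map_pow, brP_x, brP_y, map_zero] at h'
    exact hne0 (by linear_combination h')

end Groth.Agent.ArSing32
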