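import Mathlib.RingTheory.Ideal.Cotangent
import Mathlib.RingTheory.IsAdjoinRoot
import Mathlib.RingTheory.Artinian.Ring
import Mathlib.FieldTheory.IsAlgClosed.Basic
import Mathlib.RingTheory.Polynomial.Basic
import Mathlib.Algebra.Polynomial.FieldDivision

/-!
# Finite local algebras with principal maximal ideal over an algebraically closed field
-/

set_option autoImplicit false

noncomputable section

namespace Groth.Agent.ArSing32

open Polynomial

universe u

variable (k : Type u) [Field k] [IsAlgClosed k] {B : Type u} [CommRing B] [IsLocalRing B]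
  [Algebra k B] [Module.Finite k B]

theorem exists_sub_algebraMap_mem_maximal (z : B) :
    ∃ c : k, z - algebraMap k B c ∈ IsLocalRing.maximalIdeal B := by
  obtain ⟨c, hc⟩ := (IsAlgClosed.algebraMap_bijective_of_isIntegral (k := k)
    (K := IsLocalRing.ResidueField B)).2 (IsLocalRing.residue B z)
  refine ⟨c, ?_⟩
  rw [← IsLocalRing.residue_eq_zero_iff, map_sub, sub_eq_zero, ← hc]
  rfl

theorem exists_equiv_of_principal {g : B} (hg : IsLocalRing.maximalIdeal B = Ideal.span {g}) :
    Nonempty (B ≃ₐ[k] (k[X] ⧸ Ideal.span {(X : k[X]) ^ Module.finrank k B})) := by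
  have : IsArtinianRing B := IsArtinianRing.of_finite k B
  obtain ⟨N, hN'⟩ := IsArtinianRing.isNilpotent_jacobson_bot (R := B)
  rw [IsLocalRing.jacobson_eq_maximalIdeal ⊥ bot_ne_top, hg, Ideal.span_singleton_pow,
    Ideal.zero_eq_bot, Ideal.span_singleton_eq_bot] at hN'
  have hN : g ^ N = 0 := hN'
  have hstep : ∀ m : ℕ, ∀ z : B, ∃ p : k[X], g ^ m ∣ z - aeval g p := by
    intro m
    induction m with
    | zero => exact fun z => ⟨0, by simp⟩
    | succ m ih =>
      intro z
      obtain ⟨c, hc⟩ := exists_sub_algebraMap_mem_maximal k z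
      rw [hg, Ideal.mem_span_singleton] at hc
      obtain ⟨w, hw⟩ := hc
      obtain ⟨p, v, hv⟩ := ih w
      refine ⟨C c + X * p, v, ?_⟩
      rw [map_add, map_mul, aeval_C, aeval_X, pow_succ]
      linear_combination hw + g * hv
  have hsurj : Function.Surjective (aeval g : k[X] →ₐ[k] B) := fun z => by
    obtain ⟨p, v, hv⟩ := hstep N z
    rw [hN, zero_mul, sub_eq_zero] at hv
    exact ⟨p, hv.symm⟩
  obtain ⟨p, hp⟩ := (IsPrincipalIdealRing.principal (RingHom.ker (aeval g : k[X] →ₐ[k] B))).principal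
  rw [Ideal.submodule_span_eq] at hp
  have hdvd : p ∣ X ^ N := by
    rw [← Ideal.mem_span_singleton, ← hp, RingHom.mem_ker, map_pow, aeval_X, hN]
  obtain ⟨d, -, hd⟩ := (dvd_prime_pow prime_X N).1 hdvd
  rw [Ideal.span_singleton_eq_span_singleton.2 hd] at hp
  let e : (k[X] ⧸ Ideal.span {(X : k[X]) ^ d}) ≃ₐ[k] B :=
    (Ideal.quotientEquivAlgOfEq k hp.symm).trans
      (Ideal.quotientKerAlgEquivOfSurjective hsurj)
  have hdim : Module.finrank k B = d := by
    rw [← e.toLinearEquiv.finrank_eq, finrank_quotient_span_eq_natDegree' (monic_X_pow d),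
      natDegree_X_pow]
  rw [hdim]
  exact ⟨e.symm⟩

end Groth.Agent.ArSing32
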