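import Groth.Agent.ArSing32.Basic

/-!
# Maps of `A_r` given on `x, y`; even and odd series; lengths
-/

set_option autoImplicit false

noncomputable section

namespace Groth.Agent.ArSing32

open ArSing

universe u

variable {k : Type u} [Field k] {r s : ℕ}

theorem map_xMap {ψ : ring k r →ₐ[k] ring k s} {g : PowerSeries k} (hg : g.constantCoeff = 0)
    (h : ψ (x k r) = xMap k s g) (a : PowerSeries k) :
    ψ (xMap k r a) = xMap k s (PowerSeries.subst g a) := by
  have hs := PowerSeries.HasSubst.of_constantCoeff_zero' hg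
  have e := powerSeries_algHom_ext (ψ₁ := ψ.comp (xMap k r))
    (ψ₂ := (xMap k s).comp (PowerSeries.substAlgHom hs))
    (by simp only [AlgHom.comp_apply, xMap_X, PowerSeries.substAlgHom_X, h])
  have := DFunLike.congr_fun e a
  simpa only [AlgHom.comp_apply, PowerSeries.coe_substAlgHom] using this

theorem map_xMap_neg {ψ : ring k r →ₐ[k] ring k s} (h : ψ (x k r) = -x k s) (a : PowerSeries k) :
    ψ (xMap k r a) = xMap k s (PowerSeries.rescale (-1 : k) a) := by
  rw [map_xMap (g := (-1 : k) • PowerSeries.X) (by simp) (by rw [h, map_smul, xMap_X, neg_one_smul]),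
    PowerSeries.rescale_eq_subst]

theorem map_xMap_id {ψ : ring k r →ₐ[k] ring k r} (h : ψ (x k r) = x k r) (a : PowerSeries k) :
    ψ (xMap k r a) = xMap k r a := by
  rw [map_xMap (g := PowerSeries.X) (by simp) (by rw [h, xMap_X]), PowerSeries.X_subst]

theorem map_xMap_sq {ψ : ring k r →ₐ[k] ring k s} (h : ψ (x k r) = x k s ^ 2) (a : PowerSeries k) :
    ψ (xMap k r a) = xMap k s (PowerSeries.subst (PowerSeries.X ^ 2 : PowerSeries k) a) :=
  map_xMap (by simp) (by rw [h, map_pow, xMap_X]) a

/-- The series `a(t^2)`. -/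
def sqS (a : PowerSeries k) : PowerSeries k := PowerSeries.subst (PowerSeries.X ^ 2 : PowerSeries k) a

theorem coeff_sqS_even (a : PowerSeries k) (n : ℕ) :
    PowerSeries.coeff (2 * n) (sqS a) = PowerSeries.coeff n a := by
  rw [sqS, PowerSeries.coeff_subst_X_pow two_ne_zero, if_pos (dvd_mul_right 2 n),
    Nat.mul_div_cancel_left n (by omega)]
  rfl

theorem coeff_sqS_odd (a : PowerSeries k) (n : ℕ) :
    PowerSeries.coeff (2 * n + 1) (sqS a) = 0 := by
  rw [sqS, PowerSeries.coeff_subst_X_pow two_ne_zero, if_neg (by omega)]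

/-- Even part. -/
def evenPart (a : PowerSeries k) : PowerSeries k := PowerSeries.mk fun n => PowerSeries.coeff (2 * n) a

/-- Odd part. -/
def oddPart (a : PowerSeries k) : PowerSeries k :=
  PowerSeries.mk fun n => PowerSeries.coeff (2 * n + 1) a

theorem coeff_even_odd (e o : PowerSeries k) (n : ℕ) :
    PowerSeries.coeff (2 * n) (sqS e + PowerSeries.X * sqS o) = PowerSeries.coeff n e ∧
      PowerSeries.coeff (2 * n + 1) (sqS e + PowerSeries.X * sqS o) = PowerSeries.coeff n o := by
  refine ⟨?_, ?_⟩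
  · rw [map_add, coeff_sqS_even]
    rcases n with _ | n
    · simp
    · rw [show 2 * (n + 1) = (2 * n + 1) + 1 by ring, PowerSeries.coeff_succ_X_mul, coeff_sqS_odd,
        add_zero]
  · rw [map_add, coeff_sqS_odd, PowerSeries.coeff_succ_X_mul, coeff_sqS_even, zero_add]

theorem sqS_add_X_mul_sqS (a : PowerSeries k) :
    sqS (evenPart a) + PowerSeries.X * sqS (oddPart a) = a := by
  ext n
  rcases Nat.even_or_odd' n with ⟨m, rfl | rfl⟩
  · rw [(coeff_even_odd _ _ m).1, evenPart, PowerSeries.coeff_mk]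
  · rw [(coeff_even_odd _ _ m).2, oddPart, PowerSeries.coeff_mk]

theorem evenOdd_inj {e o e' o' : PowerSeries k}
    (h : sqS e + PowerSeries.X * sqS o = sqS e' + PowerSeries.X * sqS o') : e = e' ∧ o = o' :=
  ⟨PowerSeries.ext fun n => by rw [← (coeff_even_odd e o n).1, h, (coeff_even_odd e' o' n).1],
    PowerSeries.ext fun n => by rw [← (coeff_even_odd e o n).2, h, (coeff_even_odd e' o' n).2]⟩

theorem sqS_injective : Function.Injective (sqS (k := k)) := fun a b h =>
  PowerSeries.ext fun n => by rw [← coeff_sqS_even a, h, coeff_sqS_even]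

theorem X_mul_sqS_injective {a b : PowerSeries k}
    (h : PowerSeries.X * sqS a = PowerSeries.X * sqS b) : a = b :=
  sqS_injective (mul_left_cancel₀ PowerSeries.X_ne_zero h)

theorem coeff_rescale_neg_one (a : PowerSeries k) (n : ℕ) :
    PowerSeries.coeff (2 * n) (PowerSeries.rescale (-1 : k) a) = PowerSeries.coeff (2 * n) a ∧
      PowerSeries.coeff (2 * n + 1) (PowerSeries.rescale (-1 : k) a) =
        -PowerSeries.coeff (2 * n + 1) a := by
  simp [PowerSeries.coeff_rescale, pow_add, pow_mul]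

theorem even_iff (h2 : (2 : k) ≠ 0) (a : PowerSeries k) :
    PowerSeries.rescale (-1 : k) a = a ↔ ∃ e, sqS e = a := by
  constructor
  · intro h
    refine ⟨evenPart a, ?_⟩
    conv_rhs => rw [← sqS_add_X_mul_sqS a]
    have h0 : oddPart a = 0 := PowerSeries.ext fun n => by
      have := (coeff_rescale_neg_one a n).2
      rw [h, eq_neg_iff_add_eq_zero, ← two_mul, mul_eq_zero] at this
      rw [oddPart, PowerSeries.coeff_mk, this.resolve_left h2, map_zero]
    have hz : sqS (0 : PowerSeries k) = 0 := by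
      rw [sqS, ← PowerSeries.coe_substAlgHom (PowerSeries.HasSubst.X_pow two_ne_zero), map_zero]
    rw [h0, hz, mul_zero, add_zero]
  · rintro ⟨e, rfl⟩
    ext n
    rcases Nat.even_or_odd' n with ⟨m, rfl | rfl⟩
    · rw [(coeff_rescale_neg_one _ m).1]
    · rw [(coeff_rescale_neg_one _ m).2, coeff_sqS_odd, neg_zero]

theorem odd_iff (h2 : (2 : k) ≠ 0) (a : PowerSeries k) :
    PowerSeries.rescale (-1 : k) a = -a ↔ ∃ o, PowerSeries.X * sqS o = a := by
  constructor
  · intro h
    have h0 : PowerSeries.constantCoeff a = 0 := by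
      have := (coeff_rescale_neg_one a 0).1
      rw [h, map_neg, neg_eq_iff_add_eq_zero, ← two_mul, mul_eq_zero] at this
      simpa using this.resolve_left h2
    obtain ⟨b, rfl⟩ := PowerSeries.X_dvd_iff.2 h0
    obtain ⟨e, he⟩ := (even_iff h2 b).1 (by
      rw [map_mul, PowerSeries.rescale_X, map_neg, map_one, neg_one_mul, neg_mul, neg_inj] at h
      exact mul_left_cancel₀ PowerSeries.X_ne_zero h)
    exact ⟨e, by rw [he]⟩
  · rintro ⟨e, rfl⟩
    rw [map_mul, (even_iff h2 _).2 ⟨e, rfl⟩, PowerSeries.rescale_X, map_neg, map_one, neg_one_mul,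
      neg_mul]

theorem constantCoeff_rescale (t : k) (a : PowerSeries k) :
    PowerSeries.constantCoeff (PowerSeries.rescale t a) = PowerSeries.constantCoeff a := by
  rw [← PowerSeries.coeff_zero_eq_constantCoeff_apply, PowerSeries.coeff_rescale, pow_zero, one_mul,
    PowerSeries.coeff_zero_eq_constantCoeff_apply]

/-- The length of a quotient of `A_r` cut out by a linear map. -/
theorem length_quotient_eq (I : Ideal (ring k r)) {V : Type*} [AddCommGroup V] [Module k V]
    [Module.Finite k V] (L : ring k r →ₗ[k] V) (hL : Function.Surjective L)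
    (h : ∀ z, z ∈ I ↔ L z = 0) :
    Module.length (ring k r) (ring k r ⧸ I) = Module.finrank k V := by
  let e : (ring k r ⧸ I) ≃ₗ[k] V :=
    ((Submodule.Quotient.restrictScalarsEquiv k I).symm ≪≫ₗ
      Submodule.quotEquivOfEq _ _ (Submodule.ext fun z => (h z).trans LinearMap.mem_ker.symm)) ≪≫ₗ
      L.quotKerEquivOfSurjective hL
  have : Module.Finite k (ring k r ⧸ I) := Module.Finite.equiv e.symm
  rw [length_eq_finrank, e.finrank_eq]

/-- Membership in `(y)`. -/
theorem mem_span_y {z : ring k r} :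
    z ∈ Ideal.span {y k r} ↔ PowerSeries.X ^ (r + 1) ∣ cA z := by
  rw [Ideal.mem_span_singleton]
  refine ⟨fun ⟨w, hw⟩ => ?_, fun ⟨c, hc⟩ => ⟨pair (cB z) c, ?_⟩⟩
  · rw [hw, y_mul, cA_pair]; exact dvd_mul_left _ _
  · rw [y_mul, cA_pair, cB_pair, mul_comm c, ← hc, pair_cA_cB]

end Groth.Agent.ArSing32
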