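import Groth.Agent.ArSing32.Series

/-!
# The normalization of `A_r` and automorphisms coming from it
-/

set_option autoImplicit false

noncomputable section

namespace Groth.Agent.ArSing32

open PowerSeries

universe u

variable {k : Type u} [Field k]

/-- The automorphism `y ↦ -y`. -/
def negY (k : Type u) [Field k] (r : ℕ) : ArSing.ring k r ≃ₐ[k] ArSing.ring k r :=
  let f : ArSing.ring k r →ₐ[k] ArSing.ring k r :=
    AlgHom.ofLinearMap ((equiv k r).toLinearMap ∘ₗ cA.prod (-cB))
      (by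
        rw [show (1 : ArSing.ring k r) = pair 1 0 by simp [pair]]
        show pair (cA (pair 1 0 : ArSing.ring k r)) (-cB (pair 1 0 : ArSing.ring k r)) = pair 1 0
        simp)
      fun z w => by
        obtain ⟨a, b, rfl⟩ := exists_pair z
        obtain ⟨c, d, rfl⟩ := exists_pair w
        show pair (cA _) (-cB _) = pair (cA _) (-cB _) * pair (cA _) (-cB _)
        simp only [pair_mul, cA_pair, cB_pair]
        rw [pair_inj]
        exact ⟨by ring, by ring⟩
  AlgEquiv.ofAlgHom f f
    (AlgHom.ext fun z => by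
      show pair (cA (pair (cA z) (-cB z) : ArSing.ring k r))
        (-cB (pair (cA z) (-cB z) : ArSing.ring k r)) = z
      rw [cA_pair, cB_pair, neg_neg, pair_cA_cB])
    (AlgHom.ext fun z => by
      show pair (cA (pair (cA z) (-cB z) : ArSing.ring k r))
        (-cB (pair (cA z) (-cB z) : ArSing.ring k r)) = z
      rw [cA_pair, cB_pair, neg_neg, pair_cA_cB])

theorem negY_x (r : ℕ) : negY k r (ArSing.x k r) = ArSing.x k r := by
  show pair (cA _) (-cB _) = _
  rw [← pair_X_zero, cA_pair, cB_pair, neg_zero]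

theorem negY_y (r : ℕ) : negY k r (ArSing.y k r) = -ArSing.y k r := by
  show pair (cA _) (-cB _) = _
  rw [← pair_zero_one, cA_pair, cB_pair, pair_neg, neg_zero]

/-! ### `r = 2 l` -/

/-- The parametrization `x ↦ t^2`, `y ↦ t^(2l+1)`. -/
def nu (l : ℕ) : ArSing.ring k (2 * l) →ₐ[k] PowerSeries k :=
  let q := comp (X ^ 2 : PowerSeries k) (by simp)
  AlgHom.ofLinearMap (q.toLinearMap ∘ₗ cA + LinearMap.mulLeft k (X ^ (2 * l + 1)) ∘ₗ
      q.toLinearMap ∘ₗ cB)
    (by
      rw [show (1 : ArSing.ring k (2 * l)) = pair 1 0 by simp [pair]]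
      simp)
    fun z w => by
      obtain ⟨a, b, rfl⟩ := exists_pair z
      obtain ⟨c, d, rfl⟩ := exists_pair w
      rw [pair_mul]
      simp only [LinearMap.add_apply, LinearMap.coe_comp, Function.comp_apply, cA_pair, cB_pair,
        LinearMap.mulLeft_apply, AlgHom.toLinearMap_apply, map_add, map_mul, map_pow, q, comp_X]
      ring

theorem nu_pair (l : ℕ) (a b : PowerSeries k) :
    nu l (pair a b) = sqS a + X ^ (2 * l + 1) * sqS b := by
  simp [nu, sqS, comp_apply]

theorem nu_x (l : ℕ) : nu l (ArSing.x k (2 * l)) = X ^ 2 := by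
  rw [← pair_X_zero, nu_pair, sqS, subst_X' (by simp), sqS, ← comp_apply (by simp), map_zero,
    mul_zero, add_zero]

theorem nu_y (l : ℕ) : nu l (ArSing.y k (2 * l)) = X ^ (2 * l + 1) := by
  rw [← pair_zero_one, nu_pair, sqS, sqS, ← comp_apply (by simp), ← comp_apply (by simp), map_zero,
    map_one, zero_add, mul_one]

/-- Even up to degree `2 l`. -/
def InS (l : ℕ) (z : PowerSeries k) : Prop := X ^ (2 * l) ∣ rescale (-1 : k) z - z

/-- Odd up to degree `2 l`. -/
def OddC (l : ℕ) (T : PowerSeries k) : Prop := X ^ (2 * l) ∣ rescale (-1 : k) T + T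

theorem rescale_sqS (a : PowerSeries k) : rescale (-1 : k) (sqS a) = sqS a := by
  ext n
  rcases Nat.even_or_odd' n with ⟨m, rfl | rfl⟩
  · rw [(coeff_rescale_neg_one _ m).1]
  · rw [(coeff_rescale_neg_one _ m).2, coeff_sqS_odd, neg_zero]

theorem nu_mem (l : ℕ) (z : ArSing.ring k (2 * l)) : InS l (nu l z) := by
  obtain ⟨a, b, rfl⟩ := exists_pair z
  rw [nu_pair, InS, map_add, map_mul, rescale_sqS, rescale_sqS, map_pow,
    add_sub_add_left_eq_sub, rescale_X, mul_pow]
  refine dvd_sub ((Dvd.dvd.mul_left ?_ _).mul_right _) (Dvd.dvd.mul_right ?_ _) <;>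
    exact pow_dvd_pow _ (Nat.le_succ _)

theorem exists_nu_eq (h2 : (2 : k) ≠ 0) {l : ℕ} {z : PowerSeries k} (hz : InS l z) :
    ∃ w, nu l w = z := by
  have hodd : X ^ l ∣ oddPart z := X_pow_dvd_iff.2 fun i hi => by
    rw [oddPart, coeff_mk]
    have h := X_pow_dvd_iff.1 hz (2 * i + 1) (by omega)
    rw [map_sub, (coeff_rescale_neg_one z i).2, sub_eq_zero, neg_eq_iff_add_eq_zero, ← two_mul,
      mul_eq_zero] at h
    exact h.resolve_left h2
  obtain ⟨b, hb⟩ := hodd
  refine ⟨pair (evenPart z) b, ?_⟩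
  conv_rhs => rw [← sqS_add_X_mul_sqS z, hb]
  rw [nu_pair]
  simp only [sqS, ← comp_apply (show constantCoeff (X ^ 2 : PowerSeries k) = 0 by simp), map_mul,
    map_pow, comp_X]
  ring

theorem nu_injective (l : ℕ) : Function.Injective (nu (k := k) l) := fun z w h => by
  obtain ⟨a, b, rfl⟩ := exists_pair z
  obtain ⟨c, d, rfl⟩ := exists_pair w
  rw [nu_pair, nu_pair] at h
  have e : ∀ b : PowerSeries k, X ^ (2 * l + 1) * sqS b = X * sqS (X ^ l * b) := fun b => by
    simp only [sqS, ← comp_apply (show constantCoeff (X ^ 2 : PowerSeries k) = 0 by simp), map_mul,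
      map_pow, comp_X]
    ring
  rw [e, e] at h
  obtain ⟨ha, hb⟩ := evenOdd_inj h
  rw [ha, mul_left_cancel₀ (pow_ne_zero _ X_ne_zero) hb]

theorem InS.subst {l : ℕ} {z T : PowerSeries k} (hz : InS l z) (hT : constantCoeff T = 0)
    (hO : OddC l T) : InS l (PowerSeries.subst T z) := by
  have h1 : constantCoeff (rescale (-1 : k) T) = 0 := by rw [constantCoeff_rescale, hT]
  have h2 : constantCoeff (-T) = 0 := by rw [map_neg, hT, neg_zero]
  have e : X ^ (2 * l) ∣ rescale (-1 : k) T - -T := by rw [sub_neg_eq_add]; exact hO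
  have e1 := subst_congr_right h1 h2 e z
  have e2 := subst_congr_left hT hz
  rw [InS, rescale_subst hT]
  have e3 : PowerSeries.subst T (rescale (-1 : k) z) = PowerSeries.subst (-T) z := by
    rw [rescale_eq_subst_neg, subst_subst (by simp) hT, ← comp_apply hT, map_neg, comp_X]
  rw [e3] at e2
  simpa using dvd_add e1 e2

theorem OddC.inv {l : ℕ} {T T' : PowerSeries k} (hT : constantCoeff T = 0)
    (hT' : constantCoeff T' = 0) (hO : OddC l T) (hl : PowerSeries.subst T' T = X)
    (hr : PowerSeries.subst T T' = X) : OddC l T' := by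
  have h1 : constantCoeff (rescale (-1 : k) T) = 0 := by rw [constantCoeff_rescale, hT]
  have h2 : constantCoeff (-T) = 0 := by rw [map_neg, hT, neg_zero]
  have e : X ^ (2 * l) ∣ rescale (-1 : k) T - -T := by rw [sub_neg_eq_add]; exact hO
  have e1 := subst_congr_right h1 h2 e T'
  rw [← rescale_subst hT, hr, rescale_X, map_neg, map_one, neg_one_mul] at e1
  have e2 := dvd_subst hT' e1
  rw [← comp_apply hT', map_sub, map_neg, comp_X, comp_apply, subst_subst h2 hT',
    ← comp_apply hT', map_neg, comp_apply, hl, ← rescale_eq_subst_neg] at e2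
  rw [OddC, ← dvd_neg]
  convert e2 using 1
  ring

/-- The automorphism of `A_(2l)` induced by a coordinate on the normalization. -/
theorem exists_aut_even (h2 : (2 : k) ≠ 0) (l : ℕ) {T : PowerSeries k} (hT : constantCoeff T = 0)
    (h1 : coeff 1 T ≠ 0) (hO : OddC l T) :
    ∃ φ : ArSing.ring k (2 * l) ≃ₐ[k] ArSing.ring k (2 * l),
      ∀ z, nu l (φ z) = PowerSeries.subst T (nu l z) := by
  obtain ⟨T', hT', hl, hr⟩ := exists_inv hT h1
  have hO' := hO.inv hT hT' hl hr
  have mk : ∀ (U : PowerSeries k) (hU : constantCoeff U = 0), OddC l U →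
      ∃ F : ArSing.ring k (2 * l) →ₐ[k] ArSing.ring k (2 * l),
        ∀ z, nu l (F z) = PowerSeries.subst U (nu l z) := fun U hU hOU => by
    let G := ((comp U hU).comp (nu l)).codRestrict (nu l).range fun z => by
      obtain ⟨w, hw⟩ := exists_nu_eq h2 ((nu_mem l z).subst hU hOU)
      exact ⟨w, hw.trans (comp_apply hU _).symm⟩
    refine ⟨(AlgEquiv.ofInjective (nu l) (nu_injective l)).symm.toAlgHom.comp G, fun z => ?_⟩
    rw [← AlgEquiv.ofInjective_apply (nu l) (nu_injective l)]
    show ((AlgEquiv.ofInjective (nu l) (nu_injective l))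
      ((AlgEquiv.ofInjective (nu l) (nu_injective l)).symm (G z)) : PowerSeries k) = _
    rw [AlgEquiv.apply_symm_apply]
    exact comp_apply hU _
  obtain ⟨F, hF⟩ := mk T hT hO
  obtain ⟨G, hG⟩ := mk T' hT' hO'
  exact ⟨AlgEquiv.ofAlgHom F G
    (AlgHom.ext fun z => nu_injective l (by
      rw [AlgHom.comp_apply, hF, hG, subst_subst hT' hT, hr, X_subst]; rfl))
    (AlgHom.ext fun z => nu_injective l (by
      rw [AlgHom.comp_apply, hG, hF, subst_subst hT hT', hl, X_subst]; rfl)), hF⟩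

/-! ### `r = 2 l + 1` -/

/-- A branch of `A_(2l+1)`: `x ↦ t`, `y ↦ e t^(l+1)` for `e^2 = 1`. -/
def brA (l : ℕ) (e : k) (he : e ^ 2 = 1) : ArSing.ring k (2 * l + 1) →ₐ[k] PowerSeries k :=
  AlgHom.ofLinearMap (cA + LinearMap.mulLeft k (C e * X ^ (l + 1)) ∘ₗ cB)
    (by
      rw [show (1 : ArSing.ring k (2 * l + 1)) = pair 1 0 by simp [pair]]
      simp)
    fun z w => by
      obtain ⟨a, b, rfl⟩ := exists_pair z
      obtain ⟨c, d, rfl⟩ := exists_pair w
      rw [pair_mul]
      simp only [LinearMap.add_apply, LinearMap.coe_comp, Function.comp_apply, cA_pair, cB_pair,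
        LinearMap.mulLeft_apply]
      have hC : (C e : PowerSeries k) ^ 2 = 1 := by rw [← map_pow, he, map_one]
      linear_combination (-(b * d) * X ^ (2 * l + 2)) * hC

theorem brA_pair (l : ℕ) (e : k) (he : e ^ 2 = 1) (a b : PowerSeries k) :
    brA l e he (pair a b) = a + C e * X ^ (l + 1) * b := by
  simp [brA, mul_assoc]

theorem brA_x (l : ℕ) (e : k) (he : e ^ 2 = 1) : brA l e he (ArSing.x k (2 * l + 1)) = X := by
  rw [← pair_X_zero, brA_pair, mul_zero, add_zero]

theorem brA_y (l : ℕ) (e : k) (he : e ^ 2 = 1) :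
    brA l e he (ArSing.y k (2 * l + 1)) = C e * X ^ (l + 1) := by
  rw [← pair_zero_one, brA_pair, mul_one, zero_add]

/-- The branch `y = x^(l+1)`. -/
def brP (l : ℕ) : ArSing.ring k (2 * l + 1) →ₐ[k] PowerSeries k := brA l 1 (one_pow 2)

/-- The branch `y = -x^(l+1)`. -/
def brM (l : ℕ) : ArSing.ring k (2 * l + 1) →ₐ[k] PowerSeries k := brA l (-1) neg_one_sq

theorem brP_y (l : ℕ) : brP l (ArSing.y k (2 * l + 1)) = (X : PowerSeries k) ^ (l + 1) := by
  rw [brP, brA_y, map_one, one_mul]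

theorem brM_y (l : ℕ) : brM l (ArSing.y k (2 * l + 1)) = -(X : PowerSeries k) ^ (l + 1) := by
  rw [brM, brA_y, map_neg, map_one, neg_one_mul]

theorem brP_x (l : ℕ) : brP l (ArSing.x k (2 * l + 1)) = (X : PowerSeries k) := brA_x _ _ _

theorem brM_x (l : ℕ) : brM l (ArSing.x k (2 * l + 1)) = (X : PowerSeries k) := brA_x _ _ _

/-- The pair of branches. -/
def brs (l : ℕ) : ArSing.ring k (2 * l + 1) →ₐ[k] PowerSeries k × PowerSeries k :=
  (brP l).prod (brM l)

theorem brs_injective (h2 : (2 : k) ≠ 0) (l : ℕ) : Function.Injective (brs (k := k) l) := by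
  intro z w h
  obtain ⟨a, b, rfl⟩ := exists_pair z
  obtain ⟨c, d, rfl⟩ := exists_pair w
  obtain ⟨h₁, h₂⟩ := Prod.ext_iff.1 h
  change brP l _ = brP l _ at h₁
  change brM l _ = brM l _ at h₂
  simp only [brP, brM, brA_pair, map_neg, map_one, one_mul, neg_mul] at h₁ h₂
  have hh : C (2 : k) * (a - c) = 0 ∧ C (2 : k) * (X ^ (l + 1) * (b - d)) = 0 := by
    rw [map_ofNat]
    exact ⟨by linear_combination h₁ + h₂, by linear_combination h₁ - h₂⟩
  have hC : (C (2 : k) : PowerSeries k) ≠ 0 := by rwa [ne_eq, map_eq_zero_iff _ C_injective]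
  rw [mul_eq_zero, mul_eq_zero, mul_eq_zero, sub_eq_zero, sub_eq_zero] at hh
  rw [hh.1.resolve_left hC,
    (hh.2.resolve_left hC).resolve_left (pow_ne_zero _ X_ne_zero)]

theorem brs_mem (l : ℕ) (z : ArSing.ring k (2 * l + 1)) : X ^ (l + 1) ∣ brP l z - brM l z := by
  obtain ⟨a, b, rfl⟩ := exists_pair z
  rw [brP, brM, brA_pair, brA_pair, map_neg, map_one]
  exact ⟨2 * b, by ring⟩

theorem exists_brs_eq (h2 : (2 : k) ≠ 0) {l : ℕ} {f g : PowerSeries k} (h : X ^ (l + 1) ∣ f - g) :
    ∃ z, brs l z = (f, g) := by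
  obtain ⟨d, hd⟩ := h
  refine ⟨pair (C (2⁻¹ : k) * (f + g)) (C (2⁻¹ : k) * d), Prod.ext_iff.2 ⟨?_, ?_⟩⟩
  all_goals
    have hC : (C (2⁻¹ : k) : PowerSeries k) * 2 = 1 := by
      rw [← map_ofNat C, ← map_mul, inv_mul_cancel₀ h2, map_one]
  · show brP l _ = f
    simp only [brP, brA_pair, map_one, one_mul]
    linear_combination f * hC - C (2⁻¹ : k) * hd
  · show brM l _ = g
    simp only [brM, brA_pair, map_neg, map_one]
    linear_combination g * hC + C (2⁻¹ : k) * hd

/-- The automorphism of `A_(2l+1)` induced by coordinates on the two branches. -/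
theorem exists_aut_odd (h2 : (2 : k) ≠ 0) (l : ℕ) {P Q : PowerSeries k} (hP : constantCoeff P = 0)
    (hQ : constantCoeff Q = 0) (hP1 : coeff 1 P ≠ 0) (hQ1 : coeff 1 Q ≠ 0)
    (hPQ : X ^ (l + 1) ∣ P - Q) :
    ∃ φ : ArSing.ring k (2 * l + 1) ≃ₐ[k] ArSing.ring k (2 * l + 1),
      ∀ z, brP l (φ z) = subst P (brP l z) ∧ brM l (φ z) = subst Q (brM l z) := by
  obtain ⟨P', hP', hPl, hPr⟩ := exists_inv hP hP1
  obtain ⟨Q', hQ', hQl, hQr⟩ := exists_inv hQ hQ1
  have hPQ' : X ^ (l + 1) ∣ P' - Q' := by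
    have e1 := subst_congr_right hP hQ hPQ Q'
    rw [hQr] at e1
    have e2 := dvd_subst hP' e1
    rw [← comp_apply hP', map_sub, comp_apply, subst_subst hP hP', hPl, X_subst, comp_X] at e2
    rw [← dvd_neg, neg_sub]
    exact e2
  have mk : ∀ (U V : PowerSeries k) (hU : constantCoeff U = 0) (hV : constantCoeff V = 0),
      X ^ (l + 1) ∣ U - V → ∃ F : ArSing.ring k (2 * l + 1) →ₐ[k] ArSing.ring k (2 * l + 1),
        ∀ z, brP l (F z) = subst U (brP l z) ∧ brM l (F z) = subst V (brM l z) :=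
    fun U V hU hV hUV => by
    let G := (((comp U hU).comp (brP l)).prod ((comp V hV).comp (brM l))).codRestrict (brs l).range
      fun z => by
        obtain ⟨w, hw⟩ := exists_brs_eq h2 (f := subst U (brP l z)) (g := subst V (brM l z)) (by
          rw [← sub_add_sub_cancel _ (subst U (brM l z))]
          exact dvd_add (subst_congr_left hU (brs_mem l z)) (subst_congr_right hU hV hUV _))
        exact ⟨w, hw.trans (Prod.ext (comp_apply hU _).symm (comp_apply hV _).symm)⟩
    refine ⟨(AlgEquiv.ofInjective (brs l) (brs_injective h2 l)).symm.toAlgHom.comp G, fun z => ?_⟩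
    have e : brs l ((AlgEquiv.ofInjective (brs l) (brs_injective h2 l)).symm (G z)) =
        (subst U (brP l z), subst V (brM l z)) := by
      rw [← AlgEquiv.ofInjective_apply (brs l) (brs_injective h2 l), AlgEquiv.apply_symm_apply]
      exact Prod.ext (comp_apply hU _) (comp_apply hV _)
    exact Prod.ext_iff.1 e
  obtain ⟨F, hF⟩ := mk P Q hP hQ hPQ
  obtain ⟨G, hG⟩ := mk P' Q' hP' hQ' hPQ'
  exact ⟨AlgEquiv.ofAlgHom F G
    (AlgHom.ext fun z => brs_injective h2 l (Prod.ext
      (by show brP l (F (G z)) = brP l z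
          rw [(hF _).1, (hG _).1, subst_subst hP' hP, hPr, X_subst])
      (by show brM l (F (G z)) = brM l z
          rw [(hF _).2, (hG _).2, subst_subst hQ' hQ, hQr, X_subst])))
    (AlgHom.ext fun z => brs_injective h2 l (Prod.ext
      (by show brP l (G (F z)) = brP l z
          rw [(hG _).1, (hF _).1, subst_subst hP hP', hPl, X_subst])
      (by show brM l (G (F z)) = brM l z
          rw [(hG _).2, (hF _).2, subst_subst hQ hQ', hQl, X_subst]))), hF⟩

end Groth.Agent.ArSing32
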