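import Groth.Agent.ArSing32.Fixed

/-!
# The two branches of the node `k[[x, y]]/(y^2 - x^2)`
-/

set_option autoImplicit false

noncomputable section

namespace Groth.Agent.ArSing32

open ArSing

universe u

variable {k : Type u} [Field k]

theorem ps_algHom_ext {ψ₁ ψ₂ : PowerSeries k →ₐ[k] PowerSeries k}
    (h : ψ₁ PowerSeries.X = ψ₂ PowerSeries.X) : ψ₁ = ψ₂ := by
  have h0 : PowerSeries.constantCoeff (ψ₁ PowerSeries.X) = 0 := by
    by_contra hne
    have h1 : IsUnit (ψ₁ (PowerSeries.X -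
        PowerSeries.C (PowerSeries.constantCoeff (ψ₁ PowerSeries.X)))) :=
      IsUnit.map ψ₁ (PowerSeries.isUnit_iff_constantCoeff.2 (by simpa using hne))
    rw [map_sub, show ψ₁ (PowerSeries.C (PowerSeries.constantCoeff (ψ₁ PowerSeries.X))) = _ from
      ψ₁.commutes _, PowerSeries.isUnit_iff_constantCoeff] at h1
    simp at h1
  apply AlgHom.ext
  intro f
  ext n
  obtain ⟨g, hg⟩ : PowerSeries.X ^ (n + 1) ∣
      f - ((PowerSeries.trunc (n + 1) f : Polynomial k) : PowerSeries k) :=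
    PowerSeries.X_pow_dvd_iff.2 fun m hm => by simp [PowerSeries.coeff_trunc, hm]
  have hp : ψ₁ ((PowerSeries.trunc (n + 1) f : Polynomial k) : PowerSeries k) =
      ψ₂ ((PowerSeries.trunc (n + 1) f : Polynomial k) : PowerSeries k) := by
    have e := Polynomial.algHom_ext (f := ψ₁.comp (Polynomial.coeToPowerSeries.algHom k))
      (g := ψ₂.comp (Polynomial.coeToPowerSeries.algHom k)) (by simpa using h)
    have e' := congrArg (fun F : Polynomial k →ₐ[k] PowerSeries k =>
      F (PowerSeries.trunc (n + 1) f)) e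
    simpa using e'
  obtain ⟨w, hw⟩ : PowerSeries.X ∣ ψ₁ PowerSeries.X := PowerSeries.X_dvd_iff.2 h0
  have key : ∀ ψ : PowerSeries k →ₐ[k] PowerSeries k, ψ PowerSeries.X = PowerSeries.X * w →
      PowerSeries.coeff n (ψ f) =
        PowerSeries.coeff n (ψ ((PowerSeries.trunc (n + 1) f : Polynomial k) : PowerSeries k)) :=
    fun ψ hψ => by
    have : f = ((PowerSeries.trunc (n + 1) f : Polynomial k) : PowerSeries k) +
        PowerSeries.X ^ (n + 1) * g := by rw [← hg, add_sub_cancel]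
    conv_lhs => rw [this, map_add, map_mul, map_pow, hψ, mul_pow, mul_assoc, map_add,
      PowerSeries.coeff_X_pow_mul', if_neg (by omega), add_zero]
  rw [key ψ₁ hw, key ψ₂ (h ▸ hw), hp]

theorem algHom_ext_ps {r : ℕ} {ψ₁ ψ₂ : ring k r →ₐ[k] PowerSeries k}
    (hx : ψ₁ (x k r) = ψ₂ (x k r)) (hy : ψ₁ (y k r) = ψ₂ (y k r)) : ψ₁ = ψ₂ := by
  have h := ps_algHom_ext (ψ₁ := ψ₁.comp (xMap k r)) (ψ₂ := ψ₂.comp (xMap k r))
    (by simp only [AlgHom.comp_apply, xMap_X, hx])
  apply AlgHom.ext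
  intro z
  obtain ⟨a, b, rfl⟩ := exists_pair z
  simp only [pair, map_add, map_mul, hy]
  rw [show ψ₁ (xMap k r a) = ψ₂ (xMap k r a) from DFunLike.congr_fun h a,
    show ψ₁ (xMap k r b) = ψ₂ (xMap k r b) from DFunLike.congr_fun h b]

/-- A branch of the node: `x ↦ t`, `y ↦ e t` for `e^2 = 1`. -/
def branch (e : k) (he : e ^ 2 = 1) : ring k 1 →ₐ[k] PowerSeries k :=
  AlgHom.ofLinearMap (cA + LinearMap.mulLeft k (PowerSeries.C e * PowerSeries.X) ∘ₗ cB)
    (by
      rw [show (1 : ring k 1) = pair 1 0 by simp [pair]]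
      simp)
    fun z w => by
      obtain ⟨a, b, rfl⟩ := exists_pair z
      obtain ⟨c, d, rfl⟩ := exists_pair w
      rw [pair_mul]
      simp only [LinearMap.add_apply, LinearMap.coe_comp, Function.comp_apply, cA_pair, cB_pair,
        LinearMap.mulLeft_apply]
      have hC : PowerSeries.C e ^ 2 = (1 : PowerSeries k) := by rw [← map_pow, he, map_one]
      linear_combination (-(b * d) * PowerSeries.X ^ 2) * hC

theorem branch_pair (e : k) (he : e ^ 2 = 1) (a b : PowerSeries k) :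
    branch e he (pair a b) = a + PowerSeries.C e * PowerSeries.X * b := by
  simp [branch, mul_assoc]

theorem branch_x (e : k) (he : e ^ 2 = 1) : branch e he (x k 1) = PowerSeries.X := by
  rw [← pair_X_zero, branch_pair, mul_zero, add_zero]

theorem branch_y (e : k) (he : e ^ 2 = 1) :
    branch e he (y k 1) = PowerSeries.C e * PowerSeries.X := by
  rw [← pair_zero_one, branch_pair, mul_one, zero_add]

/-- The branch `y = x`. -/
def br₁ : ring k 1 →ₐ[k] PowerSeries k := branch 1 (one_pow 2)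

/-- The branch `y = -x`. -/
def br₂ : ring k 1 →ₐ[k] PowerSeries k := branch (-1) neg_one_sq

theorem br₁_x : br₁ (x k 1) = PowerSeries.X := branch_x _ _
theorem br₂_x : br₂ (x k 1) = PowerSeries.X := branch_x _ _
theorem br₁_y : br₁ (y k 1) = PowerSeries.X := by
  rw [br₁, branch_y, map_one, one_mul]
theorem br₂_y : br₂ (y k 1) = -PowerSeries.X := by
  rw [br₂, branch_y, map_neg, map_one, neg_one_mul]

theorem br_ext (h2 : (2 : k) ≠ 0) {z w : ring k 1} (h₁ : br₁ z = br₁ w) (h₂ : br₂ z = br₂ w) :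
    z = w := by
  obtain ⟨a, b, rfl⟩ := exists_pair z
  obtain ⟨c, d, rfl⟩ := exists_pair w
  simp only [br₁, br₂, branch_pair, map_neg, map_one, one_mul, neg_mul] at h₁ h₂
  have h : PowerSeries.C (2 : k) * (a - c) = 0 ∧
      PowerSeries.C (2 : k) * (PowerSeries.X * (b - d)) = 0 := by
    rw [map_ofNat]
    exact ⟨by linear_combination h₁ + h₂, by linear_combination h₁ - h₂⟩
  have hC : PowerSeries.C (2 : k) ≠ 0 := by
    rwa [ne_eq, map_eq_zero_iff _ PowerSeries.C_injective]
  rw [mul_eq_zero, mul_eq_zero, mul_eq_zero, sub_eq_zero, sub_eq_zero] at h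
  rw [h.1.resolve_left hC, (h.2.resolve_left hC).resolve_left PowerSeries.X_ne_zero]

theorem br_constantCoeff (z : ring k 1) :
    PowerSeries.constantCoeff (br₁ z) = PowerSeries.constantCoeff (br₂ z) := by
  obtain ⟨a, b, rfl⟩ := exists_pair z
  simp [br₁, br₂, branch_pair]

theorem exists_br (h2 : (2 : k) ≠ 0) {f g : PowerSeries k}
    (h : PowerSeries.constantCoeff f = PowerSeries.constantCoeff g) :
    ∃ z : ring k 1, br₁ z = f ∧ br₂ z = g := by
  obtain ⟨d, hd⟩ : PowerSeries.X ∣ f - g :=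
    PowerSeries.X_dvd_iff.2 (by rw [map_sub, h, sub_self])
  refine ⟨pair (PowerSeries.C (2⁻¹ : k) * (f + g)) (PowerSeries.C (2⁻¹ : k) * d), ?_, ?_⟩
  all_goals
    have hC : PowerSeries.C (2⁻¹ : k) * 2 = 1 := by
      rw [← map_ofNat PowerSeries.C, ← map_mul, inv_mul_cancel₀ h2, map_one]
  · simp only [br₁, branch_pair, map_one, one_mul]
    linear_combination f * hC - PowerSeries.C (2⁻¹ : k) * hd
  · simp only [br₂, branch_pair, map_neg, map_one]
    linear_combination g * hC + PowerSeries.C (2⁻¹ : k) * hd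

theorem mem_span_branch (h2 : (2 : k) ≠ 0) {z : ring k 1} :
    z ∈ Ideal.span {y k 1 - x k 1} ↔ br₁ z = 0 := by
  rw [Ideal.mem_span_singleton]
  refine ⟨fun ⟨w, hw⟩ => by rw [hw, map_mul, map_sub, br₁_y, br₁_x, sub_self, zero_mul],
    fun h => ?_⟩
  obtain ⟨g, hg⟩ : PowerSeries.X ∣ br₂ z :=
    PowerSeries.X_dvd_iff.2 (by rw [← br_constantCoeff, h, map_zero])
  set g' : PowerSeries k := PowerSeries.C (-2⁻¹ : k) * g
  obtain ⟨w, hw₁, hw₂⟩ := exists_br h2 (f := PowerSeries.C (PowerSeries.constantCoeff g')) (g := g')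
    (PowerSeries.constantCoeff_C _)
  refine ⟨w, br_ext h2 ?_ ?_⟩
  · rw [h, map_mul, map_sub, br₁_y, br₁_x, sub_self, zero_mul]
  · have hC : PowerSeries.C (-2⁻¹ : k) * 2 = -1 := by
      rw [map_neg, neg_mul, ← map_ofNat PowerSeries.C, ← map_mul, inv_mul_cancel₀ h2, map_one]
    rw [map_mul, map_sub, br₂_y, br₂_x, hw₂, hg]
    linear_combination (PowerSeries.X * g) * hC

end Groth.Agent.ArSing32
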