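import Groth.Agent.CAlg4.NodeDef

/-!
# Deformations of a node with a branch preserving involution
-/

set_option autoImplicit false

noncomputable section

universe u

open IsLocalRing

namespace Groth.Agent.ArSing32.NodeInvol

open CAlg4.NodeDef CAlg4

variable (k : Type u) [Field k]

/-- The node `k⟦x, y⟧/(xy)`. -/
abbrev N : Type u := P2 k ⧸ Ideal.span {(MvPowerSeries.X 0 * MvPowerSeries.X 1 : P2 k)}

/-- The node `k⟦x, y⟧/(y² - x²)`. -/
abbrev F0 : Type u := P2 k ⧸ Ideal.span {(MvPowerSeries.X 1 ^ 2 - MvPowerSeries.X 0 ^ 2 : P2 k)}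

variable {k}

theorem maximalIdeal_P2 : maximalIdeal (P2 k) = Ideal.span (Set.range MvPowerSeries.X) := by
  rw [Cohen12.maximalIdeal_powerSeries, maximalIdeal_eq_bot, Ideal.map_bot, bot_sup_eq]

theorem nontrivial_quot (r : P2 k) (hr : MvPowerSeries.constantCoeff r = 0) :
    Nontrivial (P2 k ⧸ Ideal.span {r}) := by
  refine Ideal.Quotient.nontrivial_iff.2 fun h => ?_
  rw [Ideal.span_singleton_eq_top] at h
  have := h.map (MvPowerSeries.constantCoeff (σ := Fin 2) (R := k))
  rw [hr] at this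
  exact not_isUnit_zero this

/-- A map out of a quotient of power series with prescribed variables is surjective if the variables
of the target are combinations. -/
theorem exists_surjective (r s : P2 k) (hr : MvPowerSeries.constantCoeff r = 0)
    (hs : MvPowerSeries.constantCoeff s = 0) (a : Fin 2 → P2 k)
    (ha : ∀ i, MvPowerSeries.constantCoeff (a i) = 0)
    (hgen : ∀ i, Ideal.Quotient.mk (Ideal.span {s}) (MvPowerSeries.X i) ∈
      Ideal.span (Set.range fun j => Ideal.Quotient.mk (Ideal.span {s}) (a j)))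
    (hrel : ∀ φ : P2 k →+* P2 k ⧸ Ideal.span {s},
      (∀ i, φ (MvPowerSeries.X i) = Ideal.Quotient.mk _ (a i)) →
        (∀ c, φ (MvPowerSeries.C c) = Ideal.Quotient.mk _ (MvPowerSeries.C c)) → φ r = 0) :
    ∃ φ : P2 k ⧸ Ideal.span {r} →+* P2 k ⧸ Ideal.span {s}, Function.Surjective φ ∧
      ∀ c, φ (Ideal.Quotient.mk _ (MvPowerSeries.C c)) = Ideal.Quotient.mk _ (MvPowerSeries.C c) := by
  have := Cohen12.isNoetherianRing_powerSeries k 2
  have := Cohen12.isAdicComplete_powerSeries (W := k) 2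
  have := nontrivial_quot s hs
  have : IsLocalRing (P2 k ⧸ Ideal.span {s}) :=
    .of_surjective' (Ideal.Quotient.mk _) Ideal.Quotient.mk_surjective
  have := Cohen12.isAdicComplete_quotient (Ideal.span {s})
  have hlh : IsLocalHom (Ideal.Quotient.mk (Ideal.span {s})) :=
    .of_surjective _ Ideal.Quotient.mk_surjective
  have hmem : ∀ i, Ideal.Quotient.mk (Ideal.span {s}) (a i) ∈ maximalIdeal _ := fun i =>
    map_nonunit (Ideal.Quotient.mk (Ideal.span {s})) _
      ((Cohen12.mem_maximalIdeal_powerSeries 2).2 (by rw [ha i]; exact zero_mem _))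
  obtain ⟨φ, hC, hX⟩ := LA18.exists_powerSeries_hom (maximalIdeal _)
    ((Ideal.Quotient.mk (Ideal.span {s})).comp (MvPowerSeries.C : k →+* P2 k)) _ hmem
  have hloc : (maximalIdeal (P2 k)).map φ ≤ maximalIdeal _ := by
    rw [maximalIdeal_P2, Ideal.map_span, Ideal.span_le]
    rintro _ ⟨_, ⟨i, rfl⟩, rfl⟩
    exact (hX i).symm ▸ hmem i
  have hsurj : Function.Surjective φ := by
    refine CAlg6.surjective_of_cotangent φ hloc (fun z => ?_) (le_sup_of_le_left ?_)
    · obtain ⟨w, rfl⟩ := residue_surjective z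
      obtain ⟨f, rfl⟩ := Ideal.Quotient.mk_surjective w
      refine ⟨MvPowerSeries.C (MvPowerSeries.constantCoeff f), ?_⟩
      show residue _ (φ _) = residue _ _
      rw [hC]
      refine Ideal.Quotient.eq.2 ?_
      rw [RingHom.comp_apply, ← map_sub]
      exact map_nonunit (Ideal.Quotient.mk (Ideal.span {s})) _
        ((Cohen12.mem_maximalIdeal_powerSeries 2).2 (by simp))
    · intro z hz
      obtain ⟨f, rfl⟩ := Ideal.Quotient.mk_surjective z
      have hf : f ∈ maximalIdeal (P2 k) := fun hu => hz (hu.map _)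
      rw [maximalIdeal_P2] at hf ⊢
      have h1 := Ideal.mem_map_of_mem (Ideal.Quotient.mk (Ideal.span {s})) hf
      rw [Ideal.map_span] at h1 ⊢
      refine Ideal.span_le.2 ?_ h1
      rintro _ ⟨_, ⟨i, rfl⟩, rfl⟩
      refine Ideal.span_mono ?_ (hgen i)
      rintro _ ⟨j, rfl⟩
      exact ⟨MvPowerSeries.X j, ⟨j, rfl⟩, hX j⟩
  have hle : ∀ x ∈ Ideal.span {r}, φ x = 0 := fun x hx => by
    obtain ⟨c, rfl⟩ := Ideal.mem_span_singleton'.1 hx
    rw [map_mul, hrel φ hX hC, mul_zero]
  exact ⟨Ideal.Quotient.lift _ φ hle, Ideal.Quotient.lift_surjective_of_surjective _ hle hsurj, hC⟩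

/-- The two models of the node agree. -/
theorem exists_node_equiv (h2 : (2 : k) ≠ 0) :
    ∃ e : F0 k ≃+* N k,
      ∀ c, e (Ideal.Quotient.mk _ (MvPowerSeries.C c)) = Ideal.Quotient.mk _ (MvPowerSeries.C c) := by
  have := Cohen12.isNoetherianRing_powerSeries k 2
  let h : P2 k := MvPowerSeries.C (2⁻¹ : k)
  have h2h : (2 : P2 k) * h = 1 := by
    rw [← map_ofNat (MvPowerSeries.C : k →+* P2 k) 2, ← map_mul, mul_inv_cancel₀ h2, map_one]
  let x : P2 k := MvPowerSeries.X 0
  let y : P2 k := MvPowerSeries.X 1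
  obtain ⟨φ, hφs, hφC⟩ := exists_surjective (y ^ 2 - x ^ 2) (x * y) (by simp [x, y]) (by simp [x, y])
    ![h * (x - y), h * (x + y)] (fun i => by fin_cases i <;> simp [x, y, h])
    (fun i => by
      fin_cases i
      · have h1 : x = (h * (x + y)) + (h * (x - y)) := by linear_combination -x * h2h
        show Ideal.Quotient.mk _ x ∈ _
        have h3 := congrArg (Ideal.Quotient.mk (Ideal.span {x * y})) h1
        rw [map_add] at h3
        rw [h3]
        exact add_mem (Ideal.subset_span ⟨1, rfl⟩) (Ideal.subset_span ⟨0, rfl⟩)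
      · have h1 : y = (h * (x + y)) - (h * (x - y)) := by linear_combination -y * h2h
        show Ideal.Quotient.mk _ y ∈ _
        have h3 := congrArg (Ideal.Quotient.mk (Ideal.span {x * y})) h1
        rw [map_sub] at h3
        rw [h3]
        exact sub_mem (Ideal.subset_span ⟨1, rfl⟩) (Ideal.subset_span ⟨0, rfl⟩))
    (fun φ hX _ => by
      rw [map_sub, map_pow, map_pow, hX, hX, ← map_pow, ← map_pow, ← map_sub,
        Ideal.Quotient.eq_zero_iff_mem]
      exact Ideal.mem_span_singleton'.2 ⟨4 * h ^ 2, by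
        simp only [Matrix.cons_val_one, Matrix.cons_val_zero]; ring⟩)
  obtain ⟨ψ, hψs, hψC⟩ := exists_surjective (x * y) (y ^ 2 - x ^ 2) (by simp [x, y]) (by simp [x, y])
    ![y + x, y - x] (fun i => by fin_cases i <;> simp [x, y])
    (fun i => by
      fin_cases i
      · have h1 : x = h * (y + x) - h * (y - x) := by linear_combination -x * h2h
        show Ideal.Quotient.mk _ x ∈ _
        have h3 := congrArg (Ideal.Quotient.mk (Ideal.span {y ^ 2 - x ^ 2})) h1
        rw [map_sub, map_mul, map_mul] at h3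
        rw [h3]
        exact sub_mem (Ideal.mul_mem_left _ _ (Ideal.subset_span ⟨0, rfl⟩))
          (Ideal.mul_mem_left _ _ (Ideal.subset_span ⟨1, rfl⟩))
      · have h1 : y = h * (y + x) + h * (y - x) := by linear_combination -y * h2h
        show Ideal.Quotient.mk _ y ∈ _
        have h3 := congrArg (Ideal.Quotient.mk (Ideal.span {y ^ 2 - x ^ 2})) h1
        rw [map_add, map_mul, map_mul] at h3
        rw [h3]
        exact add_mem (Ideal.mul_mem_left _ _ (Ideal.subset_span ⟨0, rfl⟩))
          (Ideal.mul_mem_left _ _ (Ideal.subset_span ⟨1, rfl⟩)))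
    (fun φ hX _ => by
      rw [map_mul, hX, hX, ← map_mul, Ideal.Quotient.eq_zero_iff_mem]
      exact Ideal.mem_span_singleton'.2 ⟨1, by
        simp only [Matrix.cons_val_one, Matrix.cons_val_zero]; ring⟩)
  have : IsNoetherianRing (N k) :=
    isNoetherianRing_of_surjective _ _ (Ideal.Quotient.mk _) Ideal.Quotient.mk_surjective
  have hinj : Function.Injective φ := by
    have hc := injective_of_surjective_endo (φ.comp ψ) (hφs.comp hψs)
    intro a b hab
    obtain ⟨a, rfl⟩ := hψs a
    obtain ⟨b, rfl⟩ := hψs b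
    exact congrArg ψ (hc hab)
  exact ⟨RingEquiv.ofBijective φ ⟨hinj, hφs⟩, hφC⟩

theorem prime_X (i : Fin 2) : Prime (MvPowerSeries.X i : P2 k) := by
  have h0 : Prime (MvPowerSeries.X 0 : P2 k) := by
    have : IsDomain (MvPowerSeries (Fin 1) k) := NoZeroDivisors.to_isDomain _
    refine (MulEquiv.prime_iff (MvPowerSeries.finSuccEquiv k 1)).1 ?_
    have : MvPowerSeries.finSuccEquiv k 1 (MvPowerSeries.X 0) = PowerSeries.X := by
      simp
    rw [this]
    exact PowerSeries.X_prime
  fin_cases i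
  · exact h0
  · refine (MulEquiv.prime_iff (MvPowerSeries.renameEquiv k (Equiv.swap (0 : Fin 2) 1))).1 ?_
    simpa using h0

/-- The branches of the node. -/
theorem minimal_branch (i : Fin 2) :
    Minimal (fun P : Ideal (N k) => P.IsPrime) (Ideal.span {Ideal.Quotient.mk _ (MvPowerSeries.X i)}) := by
  classical
  have hxy : Ideal.Quotient.mk (Ideal.span {(MvPowerSeries.X 0 * MvPowerSeries.X 1 : P2 k)})
      (MvPowerSeries.X 0 * MvPowerSeries.X 1) = 0 :=
    Ideal.Quotient.eq_zero_iff_mem.2 (Ideal.mem_span_singleton_self _)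
  have hdvd : ∀ i : Fin 2, (MvPowerSeries.X i : P2 k) ∣ MvPowerSeries.X 0 * MvPowerSeries.X 1 := fun i => by
    fin_cases i
    · exact Dvd.intro _ rfl
    · exact Dvd.intro_left _ rfl
  have hcomap : (Ideal.span {Ideal.Quotient.mk (Ideal.span {(MvPowerSeries.X 0 * MvPowerSeries.X 1 : P2 k)})
      (MvPowerSeries.X i)}).comap (Ideal.Quotient.mk _) = Ideal.span {(MvPowerSeries.X i : P2 k)} := by
    have hmap : Ideal.span {Ideal.Quotient.mk (Ideal.span {(MvPowerSeries.X 0 * MvPowerSeries.X 1 : P2 k)})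
        (MvPowerSeries.X i)} = (Ideal.span {(MvPowerSeries.X i : P2 k)}).map (Ideal.Quotient.mk _) := by
      rw [Ideal.map_span, Set.image_singleton]
    rw [hmap, Ideal.comap_map_of_surjective' _ Ideal.Quotient.mk_surjective, Ideal.mk_ker, sup_eq_left]
    exact Ideal.span_singleton_le_span_singleton.2 (hdvd i)
  refine ⟨?_, fun P hP hle => ?_⟩
  · have : (Ideal.span {(MvPowerSeries.X i : P2 k)}).IsPrime :=
      (Ideal.span_singleton_prime (prime_X i).ne_zero).2 (prime_X i)
    rw [← Ideal.map_comap_of_surjective _ Ideal.Quotient.mk_surjective (Ideal.span _), hcomap]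
    exact Ideal.map_isPrime_of_surjective Ideal.Quotient.mk_surjective (by
      rw [Ideal.mk_ker]; exact Ideal.span_singleton_le_span_singleton.2 (hdvd i))
  · rw [Ideal.span_le, Set.singleton_subset_iff]
    have hex : ∃ j, Ideal.Quotient.mk _ (MvPowerSeries.X j) ∈ P := by
      have h0 : Ideal.Quotient.mk (Ideal.span {(MvPowerSeries.X 0 * MvPowerSeries.X 1 : P2 k)})
          (MvPowerSeries.X 0 * MvPowerSeries.X 1) ∈ P := hxy ▸ zero_mem _
      rw [map_mul] at h0
      rcases hP.mem_or_mem h0 with h | h <;> exact ⟨_, h⟩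
    obtain ⟨j, hj⟩ := hex
    obtain rfl | hji := eq_or_ne j i
    · exact hj
    · exfalso
      have h1 : (MvPowerSeries.X j : P2 k) ∈ Ideal.span {(MvPowerSeries.X i : P2 k)} := by
        rw [← hcomap]; exact hle hj
      rw [Ideal.mem_span_singleton, MvPowerSeries.X_dvd_iff] at h1
      have h2 := h1 (Finsupp.single j 1) (by simp [hji.symm])
      rw [MvPowerSeries.coeff_X, if_pos rfl] at h2
      exact one_ne_zero h2

theorem branch_ne_zero (i : Fin 2) :
    Ideal.Quotient.mk (Ideal.span {(MvPowerSeries.X 0 * MvPowerSeries.X 1 : P2 k)}) (MvPowerSeries.X i) ≠ 0 := by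
  classical
  intro h
  rw [Ideal.Quotient.eq_zero_iff_mem, Ideal.mem_span_singleton] at h
  have hd : ∀ j, (MvPowerSeries.X j : P2 k) ∣ MvPowerSeries.X i := fun j => by
    fin_cases j
    · exact (Dvd.intro _ rfl).trans h
    · exact (Dvd.intro_left _ rfl).trans h
  have h1 := (MvPowerSeries.X_dvd_iff.1 (hd (1 - i))) (Finsupp.single i 1) (by fin_cases i <;> simp)
  rw [MvPowerSeries.coeff_X, if_pos rfl] at h1
  exact one_ne_zero h1

variable {R S : Type u} [CommRing R] [IsLocalRing R] [CommRing S] [IsLocalRing S] [Algebra R S]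
  [IsLocalHom (algebraMap R S)]

/-- Equivariant approximation step. -/
theorem step (hres : Function.Bijective (ResidueField.map (algebraMap R S))) (σ : S ≃ₐ[R] S)
    {u v : S} (hgen : maximalIdeal S = Ideal.span {u, v} ⊔ (maximalIdeal R).map (algebraMap R S))
    {h a b : R} (hh : 2 * h = 1) (ha : a * a = 1) (hb : b * b = 1)
    (hσ : ∀ s, σ (σ s) = s) (hu : σ u = algebraMap R S a * u) (hv : σ v = algebraMap R S b * v)
    (n : ℕ) (U V : S) (ε : R)
    (hU : σ U = algebraMap R S a * U) (hV : σ V = algebraMap R S b * V)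
    (hε : h * (1 + a * b) * ε = ε)
    (hUu : U - u ∈ (maximalIdeal R).map (algebraMap R S))
    (hVv : V - v ∈ (maximalIdeal R).map (algebraMap R S))
    (hrel : U * V - algebraMap R S ε ∈ (maximalIdeal R ^ (n + 1)).map (algebraMap R S)) :
    ∃ U' V' : S, ∃ ε' : R, σ U' = algebraMap R S a * U' ∧ σ V' = algebraMap R S b * V' ∧
      h * (1 + a * b) * ε' = ε' ∧
      U' - U ∈ (maximalIdeal R ^ (n + 1)).map (algebraMap R S) ∧
      V' - V ∈ (maximalIdeal R ^ (n + 1)).map (algebraMap R S) ∧
      ε' - ε ∈ maximalIdeal R ^ (n + 1) ∧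
      U' * V' - algebraMap R S ε' ∈ (maximalIdeal R ^ (n + 2)).map (algebraMap R S) := by
  obtain ⟨r, hr, y, hy, z, hz, h1⟩ := NodeApprox.split hres hgen (n + 1) hrel
  have hσI : ∀ j, ∀ x ∈ (maximalIdeal R ^ j).map (algebraMap R S),
      σ x ∈ (maximalIdeal R ^ j).map (algebraMap R S) := fun j => by
    have : (maximalIdeal R ^ j).map (algebraMap R S) ≤
        ((maximalIdeal R ^ j).map (algebraMap R S)).comap σ :=
      Ideal.map_le_iff_le_comap.2 fun x hx => by
        rw [Ideal.mem_comap, Ideal.mem_comap, σ.commutes]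
        exact Ideal.mem_map_of_mem _ hx
    exact this
  let φ := algebraMap R S
  have hh' : 2 * φ h = 1 := by rw [← map_ofNat φ 2, ← map_mul, hh, map_one]
  have ha' : φ a * φ a = 1 := by rw [← map_mul, ha, map_one]
  have hb' : φ b * φ b = 1 := by rw [← map_mul, hb, map_one]
  let z' := φ h * (z + φ a * σ z)
  let y' := φ h * (y + φ b * σ y)
  let ε' := h * (1 + a * b) * (ε + r)
  have hσz : σ z' = φ a * z' := by
    simp only [z', φ, map_mul, map_add, σ.commutes, hσ]
    linear_combination -(algebraMap R S h) * σ z * ha'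
  have hσy : σ y' = φ b * y' := by
    simp only [y', φ, map_mul, map_add, σ.commutes, hσ]
    linear_combination -(algebraMap R S h) * σ y * hb'
  have hz' : z' ∈ (maximalIdeal R ^ (n + 1)).map (algebraMap R S) :=
    Ideal.mul_mem_left _ _ (add_mem hz (Ideal.mul_mem_left _ _ (hσI _ _ hz)))
  have hy' : y' ∈ (maximalIdeal R ^ (n + 1)).map (algebraMap R S) :=
    Ideal.mul_mem_left _ _ (add_mem hy (Ideal.mul_mem_left _ _ (hσI _ _ hy)))
  have hidem : h * (1 + a * b) * (h * (1 + a * b)) = h * (1 + a * b) := by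
    linear_combination (h * h * a * a) * hb + (h * h) * ha + (h * (1 + a * b)) * hh
  refine ⟨U - z', V - y', ε', ?_, ?_, ?_, by simpa using neg_mem hz', by simpa using neg_mem hy', ?_, ?_⟩
  · rw [map_sub, hU, hσz, mul_sub]
  · rw [map_sub, hV, hσy, mul_sub]
  · linear_combination (ε + r) * hidem
  · rw [show ε' - ε = h * (1 + a * b) * r from by linear_combination hε]
    exact Ideal.mul_mem_left _ _ hr
  · have h2 := hσI _ _ h1
    simp only [map_sub, map_add, map_mul, σ.commutes, hU, hV, hu, hv] at h2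
    have h3 := Ideal.mul_mem_left _ (φ h) (add_mem h1 (Ideal.mul_mem_left _ (φ a * φ b) h2))
    have hy1 : (U - u) * y' ∈ (maximalIdeal R ^ (n + 1 + 1)).map (algebraMap R S) := by
      rw [pow_succ', Ideal.map_mul]; exact Ideal.mul_mem_mul hUu hy'
    have hz1 : (V - v) * z' ∈ (maximalIdeal R ^ (n + 1 + 1)).map (algebraMap R S) := by
      rw [pow_succ', Ideal.map_mul]; exact Ideal.mul_mem_mul hVv hz'
    have hzy : z' * y' ∈ (maximalIdeal R ^ (n + 1 + 1)).map (algebraMap R S) := by
      rw [pow_succ', Ideal.map_mul]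
      exact Ideal.mul_mem_mul (Ideal.map_mono (Ideal.pow_le_self (Nat.succ_ne_zero n)) hz') hy'
    convert add_mem (sub_mem (sub_mem h3 hy1) hz1) hzy using 1
    simp only [z', y', ε', φ, map_mul, map_add, map_one]
    linear_combination -U * V * hh' + (-algebraMap R S h * U * V * (algebraMap R S b * algebraMap R S b)
        + algebraMap R S h * u * σ y * algebraMap R S b) * ha'
      + (-algebraMap R S h * U * V + algebraMap R S h * v * σ z * algebraMap R S a) * hb'

/-- Coordinates diagonalising the involution modulo `mS`. -/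
theorem exists_eigen (h2 : (2 : k) ≠ 0) [Algebra k R] [Algebra k S] [IsScalarTower k R S]
    (σ : S ≃ₐ[R] S) (hσ : ∀ s, σ (σ s) = s)
    (hbr : ∀ P ∈ ((maximalIdeal R).map (algebraMap R S)).minimalPrimes,
      Ideal.map (σ : S →+* S) P = P)
    (e : (S ⧸ (maximalIdeal R).map (algebraMap R S)) ≃+* N k)
    (he : ∀ c : k, e (Ideal.Quotient.mk _ (algebraMap k S c)) = Ideal.Quotient.mk _ (MvPowerSeries.C c))
    (i : Fin 2) :
    ∃ (U : S) (c : k), c * c = 1 ∧ σ U = algebraMap k S c * U ∧ ∃ w : S, IsUnit w ∧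
      e (Ideal.Quotient.mk _ U) = e (Ideal.Quotient.mk _ w) * Ideal.Quotient.mk _ (MvPowerSeries.X i) := by
  classical
  let q : S →+* N k := e.toRingHom.comp (Ideal.Quotient.mk _)
  have hq : Function.Surjective q := e.surjective.comp Ideal.Quotient.mk_surjective
  let xi : N k := Ideal.Quotient.mk _ (MvPowerSeries.X i)
  obtain ⟨u0, hu0⟩ := hq xi
  have hker : RingHom.ker q = (maximalIdeal R).map (algebraMap R S) := by
    ext z; simp [q, RingHom.mem_ker, Ideal.Quotient.eq_zero_iff_mem]
  let Q := (Ideal.span {xi}).comap q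
  have hQ : Q ∈ ((maximalIdeal R).map (algebraMap R S)).minimalPrimes := by
    refine ⟨⟨(minimal_branch i).1.comap q, hker ▸ Ideal.ker_le_comap q⟩, ?_⟩
    rintro P ⟨hP, hMP⟩ hle
    have hle' : P.map q ≤ Ideal.span {xi} := Ideal.map_le_iff_le_comap.2 hle
    have hP' : (P.map q).IsPrime := Ideal.map_isPrime_of_surjective hq (hker ▸ hMP)
    intro z hz
    have hz' : q z ∈ P.map q := (minimal_branch i).2 hP' hle' hz
    obtain ⟨z', hz', hzz⟩ := (Ideal.mem_map_iff_of_surjective q hq).1 hz'
    have hk : z - z' ∈ P := hMP (hker ▸ (by rw [RingHom.mem_ker, map_sub, hzz, sub_self]))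
    simpa using add_mem hk hz'
  have hσu : σ u0 ∈ Q := by
    rw [← hbr Q hQ]
    refine Ideal.mem_map_of_mem _ ?_
    show q u0 ∈ Ideal.span {xi}
    rw [hu0]
    exact Ideal.mem_span_singleton_self _
  obtain ⟨a', ha'⟩ := Ideal.mem_span_singleton'.1 (show q (σ u0) ∈ Ideal.span {xi} from hσu)
  obtain ⟨a, rfl⟩ := hq a'
  have hM : (maximalIdeal R).map (algebraMap R S) ≤ maximalIdeal S :=
    ((local_hom_TFAE (algebraMap R S)).out 0 2).1 ‹_›
  have hσM : ∀ z ∈ (maximalIdeal R).map (algebraMap R S), σ z ∈ (maximalIdeal R).map (algebraMap R S) := by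
    have : (maximalIdeal R).map (algebraMap R S) ≤
        ((maximalIdeal R).map (algebraMap R S)).comap σ :=
      Ideal.map_le_iff_le_comap.2 fun x hx => by
        rw [Ideal.mem_comap, Ideal.mem_comap, σ.commutes]
        exact Ideal.mem_map_of_mem _ hx
    exact this
  -- the residue of `a` lies in `k`
  have := nontrivial_quot (MvPowerSeries.X 0 * MvPowerSeries.X 1 : P2 k) (by simp)
  have : IsLocalRing (N k) := .of_surjective' (Ideal.Quotient.mk _) Ideal.Quotient.mk_surjective
  obtain ⟨f, hf⟩ := Ideal.Quotient.mk_surjective (q a)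
  let c : k := MvPowerSeries.constantCoeff f
  have hlq : IsLocalHom q := .of_surjective _ hq
  have hca : a - algebraMap k S c ∈ maximalIdeal S := fun hu => by
    have h1 : IsUnit (q (a - algebraMap k S c)) := hu.map q
    rw [map_sub, ← hf, show q (algebraMap k S c) = Ideal.Quotient.mk _ (MvPowerSeries.C c) from he c,
      ← map_sub] at h1
    have : IsLocalHom (Ideal.Quotient.mk (Ideal.span {(MvPowerSeries.X 0 * MvPowerSeries.X 1 : P2 k)})) :=
      .of_surjective _ Ideal.Quotient.mk_surjective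
    have h3 : MvPowerSeries.constantCoeff (f - MvPowerSeries.C c) = 0 := by simp [c]
    exact not_isUnit_zero (h3 ▸ (isUnit_of_map_unit _ _ h1).map MvPowerSeries.constantCoeff)
  have hσc : σ (algebraMap k S c) = algebraMap k S c := by
    rw [IsScalarTower.algebraMap_apply k R S, σ.commutes]
  have haa : 1 - σ a * a ∈ maximalIdeal S := by
    intro hu
    have h1 : σ u0 - a * u0 ∈ (maximalIdeal R).map (algebraMap R S) := by
      rw [← hker, RingHom.mem_ker, map_sub, map_mul, hu0, ha', sub_self]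
    have h2 := add_mem (hσM _ h1) (Ideal.mul_mem_left _ (σ a) h1)
    rw [map_sub, map_mul, hσ] at h2
    have h3 : (1 - σ a * a) * u0 ∈ (maximalIdeal R).map (algebraMap R S) := by
      convert h2 using 1; ring
    have h4 := (Ideal.unit_mul_mem_iff_mem _ hu).1 h3
    rw [← hker, RingHom.mem_ker, hu0] at h4
    exact branch_ne_zero i h4
  have hcc : c * c = 1 := by
    by_contra hne
    refine (mem_maximalIdeal (algebraMap k S (1 - c * c))).1 ?_ ((IsUnit.mk0 _ (sub_ne_zero.2 (Ne.symm hne))).map _)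
    have h1 : σ a - algebraMap k S c ∈ maximalIdeal S := fun hu => hca (by
      have := hu.map σ
      rwa [map_sub, hσ, hσc] at this)
    have h2 := add_mem haa (add_mem (Ideal.mul_mem_right a _ h1) (Ideal.mul_mem_left _ (algebraMap k S c) hca))
    convert h2 using 1
    rw [map_sub, map_one, map_mul]
    ring
  have hh : 2 * algebraMap k S (2⁻¹ : k) = 1 := by
    rw [← map_ofNat (algebraMap k S) 2, ← map_mul, mul_inv_cancel₀ h2, map_one]
  refine ⟨algebraMap k S 2⁻¹ * (u0 + algebraMap k S c * σ u0), c, hcc, ?_,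
    algebraMap k S 2⁻¹ * (1 + algebraMap k S c * a), ?_, ?_⟩
  · have hcc' : algebraMap k S c * algebraMap k S c = 1 := by rw [← map_mul, hcc, map_one]
    simp only [map_mul, map_add, hσ, hσc]
    rw [IsScalarTower.algebraMap_apply k R S (2⁻¹ : k), σ.commutes]
    linear_combination (-(algebraMap R S (algebraMap k R 2⁻¹)) * σ u0) * hcc'
  · have h3 : algebraMap k S 2⁻¹ * (1 + algebraMap k S c * a) - 1 ∈ maximalIdeal S := by
      have h4 := Ideal.mul_mem_left _ (algebraMap k S 2⁻¹ * algebraMap k S c) hca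
      convert h4 using 1
      have hcc' : algebraMap k S c * algebraMap k S c = 1 := by rw [← map_mul, hcc, map_one]
      linear_combination hh + (algebraMap k S 2⁻¹) * hcc'
    by_contra hw
    have := sub_mem ((mem_maximalIdeal _).2 hw) h3
    rw [sub_sub_cancel] at this
    exact this isUnit_one
  · show q _ = q _ * xi
    simp only [map_mul, map_add, map_one, ← ha', hu0]
    ring

/-- The deformation of a node with involution. -/
theorem exists_algEquiv [IsNoetherianRing R] [IsAdicComplete (maximalIdeal R) R] [IsNoetherianRing S]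
    [IsAdicComplete (maximalIdeal S) S] [Algebra k R] [Algebra k S] [IsScalarTower k R S] [Module.Flat R S]
    (h2 : (2 : k) ≠ 0)
    (e0 : (S ⧸ (maximalIdeal R).map (algebraMap R S)) ≃ₐ[k] F0 k)
    (σ : S ≃ₐ[R] S) (hσ : ∀ s, σ (σ s) = s)
    (hbr : ∀ P ∈ ((maximalIdeal R).map (algebraMap R S)).minimalPrimes,
      Ideal.map (σ : S →+* S) P = P) :
    ∃ (t : R) (ξ₁ ξ₂ : k), ξ₁ ^ 2 = 1 ∧ ξ₂ ^ 2 = 1 ∧ (ξ₁ = -ξ₂ → t = 0) ∧
      ∃ f : S ≃ₐ[R] (P2 R ⧸ Ideal.span {rel R t}),
        f (σ (f.symm (Ideal.Quotient.mk _ (MvPowerSeries.X 0)))) =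
          algebraMap k R ξ₂ • Ideal.Quotient.mk _ (MvPowerSeries.X 0) ∧
        f (σ (f.symm (Ideal.Quotient.mk _ (MvPowerSeries.X 1)))) =
          algebraMap k R ξ₁ • Ideal.Quotient.mk _ (MvPowerSeries.X 1) := by
  classical
  let M := (maximalIdeal R).map (algebraMap R S)
  have hM : M ≤ maximalIdeal S := ((local_hom_TFAE (algebraMap R S)).out 0 2).1 ‹_›
  obtain ⟨e1, he1⟩ := exists_node_equiv (k := k) h2
  let e : (S ⧸ M) ≃+* N k := e0.toRingEquiv.trans e1
  have he : ∀ c : k, e (Ideal.Quotient.mk _ (algebraMap k S c)) = Ideal.Quotient.mk _ (MvPowerSeries.C c) := by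
    intro c
    show e1 (e0 (algebraMap k (S ⧸ M) c)) = _
    rw [e0.commutes]
    exact (congrArg e1 (show algebraMap k (F0 k) c = Ideal.Quotient.mk _ (MvPowerSeries.C c) from rfl)).trans (he1 c)
  let q : S →+* N k := e.toRingHom.comp (Ideal.Quotient.mk M)
  have hq : Function.Surjective q := e.surjective.comp Ideal.Quotient.mk_surjective
  have hkerq : RingHom.ker q = M := by
    ext z; simp [q, RingHom.mem_ker, Ideal.Quotient.eq_zero_iff_mem]
  obtain ⟨U, c0, hc0, hσU, wU, hwU, hU⟩ := exists_eigen h2 σ hσ hbr e he 0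
  obtain ⟨V, c1, hc1, hσV, wV, hwV, hV⟩ := exists_eigen h2 σ hσ hbr e he 1
  have hU : q U = q wU * Ideal.Quotient.mk _ (MvPowerSeries.X 0) := hU
  have hV : q V = q wV * Ideal.Quotient.mk _ (MvPowerSeries.X 1) := hV
  have := nontrivial_quot (MvPowerSeries.X 0 * MvPowerSeries.X 1 : P2 k) (by simp)
  have : IsLocalRing (N k) := .of_surjective' (Ideal.Quotient.mk _) Ideal.Quotient.mk_surjective
  have hlq : IsLocalHom q := .of_surjective _ hq
  have hXm : ∀ j, Ideal.Quotient.mk (Ideal.span {(MvPowerSeries.X 0 * MvPowerSeries.X 1 : P2 k)})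
      (MvPowerSeries.X j) ∈ maximalIdeal (N k) := fun j => by
    have : IsLocalHom (Ideal.Quotient.mk (Ideal.span {(MvPowerSeries.X 0 * MvPowerSeries.X 1 : P2 k)})) :=
      .of_surjective _ Ideal.Quotient.mk_surjective
    exact map_nonunit _ _ ((Cohen12.mem_maximalIdeal_powerSeries 2).2 (by simp))
  have hUm : U ∈ maximalIdeal S := fun hu => (mem_maximalIdeal _).1
    (hU.symm ▸ Ideal.mul_mem_left _ (q wU) (hXm 0)) (hu.map q)
  have hVm : V ∈ maximalIdeal S := fun hu => (mem_maximalIdeal _).1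
    (hV.symm ▸ Ideal.mul_mem_left _ (q wV) (hXm 1)) (hu.map q)
  have hUV : U * V ∈ M := by
    rw [← hkerq, RingHom.mem_ker, map_mul, hU, hV, mul_mul_mul_comm, ← map_mul (Ideal.Quotient.mk _),
      Ideal.Quotient.eq_zero_iff_mem.2 (Ideal.mem_span_singleton_self _), mul_zero]
  have hgen : maximalIdeal S = Ideal.span {U, V} ⊔ M := by
    refine le_antisymm (fun z hz => ?_) (sup_le (Ideal.span_le.2 ?_) hM)
    · obtain ⟨f, hf⟩ := Ideal.Quotient.mk_surjective (q z)
      have hf' : f ∈ maximalIdeal (P2 k) := fun hu => (mem_maximalIdeal z).1 hz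
        (isUnit_of_map_unit q _ (hf ▸ hu.map _))
      rw [maximalIdeal_P2] at hf'
      obtain ⟨d, hd⟩ := Ideal.mem_span_range_iff_exists_fun.1 hf'
      rw [Fin.sum_univ_two] at hd
      obtain ⟨d0, hd0⟩ := hq (Ideal.Quotient.mk _ (d 0))
      obtain ⟨d1, hd1⟩ := hq (Ideal.Quotient.mk _ (d 1))
      obtain ⟨iU, hiU⟩ := hwU.exists_left_inv
      obtain ⟨iV, hiV⟩ := hwV.exists_left_inv
      have hz2 : z - (d0 * iU * U + d1 * iV * V) ∈ M := by
        rw [← hkerq, RingHom.mem_ker, map_sub, map_add, map_mul, map_mul, map_mul, map_mul, hU, hV,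
          mul_assoc (q d0), ← mul_assoc (q iU), ← map_mul q, hiU, map_one, one_mul,
          mul_assoc (q d1), ← mul_assoc (q iV), ← map_mul q, hiV, map_one, one_mul, hd0, hd1, ← map_mul,
          ← map_mul, ← map_add, hd, hf, sub_self]
      have h3 : d0 * iU * U + d1 * iV * V ∈ Ideal.span {U, V} :=
        add_mem (Ideal.mul_mem_left _ _ (Ideal.subset_span (Or.inl rfl)))
          (Ideal.mul_mem_left _ _ (Ideal.subset_span (Or.inr rfl)))
      have := add_mem (Ideal.mem_sup_left (T := M) h3) (Ideal.mem_sup_right hz2)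
      rwa [add_sub_cancel] at this
    · rintro _ (rfl | rfl)
      · exact hUm
      · exact hVm
  have hkS : ∀ z : S, ∃ c : k, z - algebraMap k S c ∈ maximalIdeal S := by
    intro z
    obtain ⟨f, hf⟩ := Ideal.Quotient.mk_surjective (q z)
    refine ⟨MvPowerSeries.constantCoeff f, fun hu => ?_⟩
    have h1 := hu.map q
    rw [map_sub, ← hf, show q (algebraMap k S _) = Ideal.Quotient.mk _ (MvPowerSeries.C _) from
      he (MvPowerSeries.constantCoeff f), ← map_sub] at h1
    have : IsLocalHom (Ideal.Quotient.mk (Ideal.span {(MvPowerSeries.X 0 * MvPowerSeries.X 1 : P2 k)})) :=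
      .of_surjective _ Ideal.Quotient.mk_surjective
    have h3 : MvPowerSeries.constantCoeff (f - MvPowerSeries.C (MvPowerSeries.constantCoeff f)) = 0 := by simp
    exact not_isUnit_zero (h3 ▸ (isUnit_of_map_unit _ _ h1).map MvPowerSeries.constantCoeff)
  have hres : Function.Bijective (ResidueField.map (algebraMap R S)) := by
    refine ⟨(ResidueField.map (algebraMap R S)).injective, fun x => ?_⟩
    obtain ⟨z, rfl⟩ := residue_surjective x
    obtain ⟨c, hc⟩ := hkS z
    refine ⟨residue R (algebraMap k R c), ?_⟩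
    rw [ResidueField.map_residue, ← IsScalarTower.algebraMap_apply]
    exact (Ideal.Quotient.eq.2 hc).symm
  let h : R := algebraMap k R 2⁻¹
  let a : R := algebraMap k R c0
  let b : R := algebraMap k R c1
  have hh : 2 * h = 1 := by
    rw [← map_ofNat (algebraMap k R) 2, ← map_mul, mul_inv_cancel₀ h2, map_one]
  have ha : a * a = 1 := by rw [← map_mul, hc0, map_one]
  have hb : b * b = 1 := by rw [← map_mul, hc1, map_one]
  have haU : σ U = algebraMap R S a * U := by rw [hσU, IsScalarTower.algebraMap_apply k R S]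
  have hbV : σ V = algebraMap R S b * V := by rw [hσV, IsScalarTower.algebraMap_apply k R S]
  -- approximating sequences
  let State : ℕ → S × S × R → Prop := fun n s =>
    σ s.1 = algebraMap R S a * s.1 ∧ σ s.2.1 = algebraMap R S b * s.2.1 ∧ h * (1 + a * b) * s.2.2 = s.2.2 ∧
      s.1 - U ∈ M ∧ s.2.1 - V ∈ M ∧ s.2.2 ∈ maximalIdeal R ∧
      s.1 * s.2.1 - algebraMap R S s.2.2 ∈ (maximalIdeal R ^ (n + 1)).map (algebraMap R S)
  have hstep : ∀ n s, State n s → ∃ s', State (n + 1) s' ∧
      s'.1 - s.1 ∈ (maximalIdeal R ^ (n + 1)).map (algebraMap R S) ∧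
      s'.2.1 - s.2.1 ∈ (maximalIdeal R ^ (n + 1)).map (algebraMap R S) ∧
      s'.2.2 - s.2.2 ∈ maximalIdeal R ^ (n + 1) := by
    rintro n ⟨U₀, V₀, ε⟩ ⟨h1, h2', h3, h4, h5, h6, h7⟩
    obtain ⟨U', V', ε', g1, g2, g3, g4, g5, g6, g7⟩ :=
      step hres σ hgen hh ha hb hσ haU hbV n U₀ V₀ ε h1 h2' h3 h4 h5 h7
    refine ⟨(U', V', ε'), ⟨g1, g2, g3, ?_, ?_, ?_, g7⟩, g4, g5, g6⟩
    · have := add_mem (Ideal.map_mono (Ideal.pow_le_self (Nat.succ_ne_zero n)) g4) h4
      simpa using this
    · have := add_mem (Ideal.map_mono (Ideal.pow_le_self (Nat.succ_ne_zero n)) g5) h5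
      simpa using this
    · have := add_mem (Ideal.pow_le_self (Nat.succ_ne_zero n) g6) h6
      simpa using this
  choose nxt hnxt using hstep
  let seq : ∀ n, {s // State n s} := fun n => Nat.rec
    ⟨(U, V, 0), haU, hbV, mul_zero _, by simp, by simp, zero_mem _, by simpa using hUV⟩
    (fun n s => ⟨nxt n s.1 s.2, (hnxt n s.1 s.2).1⟩) n
  have hdiff : ∀ n, (seq (n + 1)).1 = nxt n (seq n).1 (seq n).2 := fun n => rfl
  have hpow : ∀ j, (maximalIdeal R ^ j).map (algebraMap R S) ≤ maximalIdeal S ^ j := fun j => by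
    rw [Ideal.map_pow]; exact Ideal.pow_right_mono hM j
  obtain ⟨Ul, hUl⟩ := exists_limit (maximalIdeal S) (fun n => (seq n).1.1) fun n =>
    Ideal.pow_le_pow_right n.le_succ (hpow _ ((hdiff n).symm ▸ (hnxt n _ (seq n).2).2.1))
  obtain ⟨Vl, hVl⟩ := exists_limit (maximalIdeal S) (fun n => (seq n).1.2.1) fun n =>
    Ideal.pow_le_pow_right n.le_succ (hpow _ ((hdiff n).symm ▸ (hnxt n _ (seq n).2).2.2.1))
  obtain ⟨t, ht⟩ := exists_limit (maximalIdeal R) (fun n => (seq n).1.2.2) fun n =>
    Ideal.pow_le_pow_right n.le_succ ((hdiff n).symm ▸ (hnxt n _ (seq n).2).2.2.2)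
  have htm : t ∈ maximalIdeal R := by
    have h1 := ht 1
    rw [pow_one] at h1
    simpa using add_mem h1 (seq 1).2.2.2.2.2.2.1
  have hσm : ∀ (n : ℕ), ∀ x ∈ maximalIdeal S ^ n, σ x ∈ maximalIdeal S ^ n := fun n => by
    have h0 : maximalIdeal S ≤ (maximalIdeal S).comap σ := fun x hx hu => hx (by
      have := hu.map σ.symm
      rwa [AlgEquiv.symm_apply_apply] at this)
    intro x hx
    exact (Ideal.le_comap_pow σ n) (Ideal.pow_right_mono h0 n hx)
  have hhaus : ∀ x y : S, (∀ n, x - y ∈ maximalIdeal S ^ n) → x = y := fun x y h => by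
    refine IsHausdorff.eq_iff_smodEq (I := maximalIdeal S).mpr fun n => ?_
    rw [smul_eq_mul, Ideal.mul_top, SModEq.sub_mem]
    exact h n
  have hσl : σ Ul = algebraMap R S a * Ul := hhaus _ _ fun n => by
    have h1 := sub_mem (hσm n _ (hUl n)) (Ideal.mul_mem_left _ (algebraMap R S a) (hUl n))
    rw [map_sub, (seq n).2.1] at h1
    convert h1 using 1; ring
  have hσl' : σ Vl = algebraMap R S b * Vl := hhaus _ _ fun n => by
    have h1 := sub_mem (hσm n _ (hVl n)) (Ideal.mul_mem_left _ (algebraMap R S b) (hVl n))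
    rw [map_sub, (seq n).2.2.1] at h1
    convert h1 using 1; ring
  have hUV' : Ul * Vl = algebraMap R S t := hhaus _ _ fun n => by
    have h3 : algebraMap R S (t - (seq n).1.2.2) ∈ maximalIdeal S ^ n :=
      hpow n (Ideal.mem_map_of_mem _ (ht n))
    have h4 : (seq n).1.1 * (seq n).1.2.1 - algebraMap R S (seq n).1.2.2 ∈ maximalIdeal S ^ n :=
      Ideal.pow_le_pow_right n.le_succ (hpow _ (seq n).2.2.2.2.2.2.2)
    rw [map_sub] at h3
    have := sub_mem (add_mem (add_mem (Ideal.mul_mem_right Vl _ (hUl n))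
      (Ideal.mul_mem_left _ (seq n).1.1 (hVl n))) h4) h3
    convert this using 1; ring
  have hUlU : Ul - U ∈ M := mem_of_forall M hM fun n => by
    have := add_mem (Ideal.mem_sup_left (T := maximalIdeal S ^ n) (seq n).2.2.2.2.1)
      (Ideal.mem_sup_right (S := M) (hUl n))
    rwa [add_comm, sub_add_sub_cancel] at this
  have hVlV : Vl - V ∈ M := mem_of_forall M hM fun n => by
    have := add_mem (Ideal.mem_sup_left (T := maximalIdeal S ^ n) (seq n).2.2.2.2.2.1)
      (Ideal.mem_sup_right (S := M) (hVl n))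
    rwa [add_comm, sub_add_sub_cancel] at this
  have hUlm : Ul ∈ maximalIdeal S := by simpa using add_mem (hM hUlU) hUm
  have hVlm : Vl ∈ maximalIdeal S := by simpa using add_mem (hM hVlV) hVm
  -- the isomorphism
  obtain ⟨φ, hC, hX⟩ := LA18.exists_powerSeries_hom (maximalIdeal S) (algebraMap R S) ![Ul, Vl] (fun i => by
    fin_cases i
    · exact hUlm
    · exact hVlm)
  have hX0 : φ (MvPowerSeries.X 0) = Ul := hX 0
  have hX1 : φ (MvPowerSeries.X 1) = Vl := hX 1
  have := Cohen12.isNoetherianRing_powerSeries R 2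
  have := Cohen12.isAdicComplete_powerSeries (W := R) 2
  have hMle : M ≤ (maximalIdeal (P2 R)).map φ := Ideal.map_le_iff_le_comap.2 fun r hr => by
    rw [Ideal.mem_comap, ← hC]
    exact Ideal.mem_map_of_mem φ ((Cohen12.mem_maximalIdeal_powerSeries 2).2 (by
      rw [MvPowerSeries.constantCoeff_C]; exact hr))
  have hXmax : ∀ j, (MvPowerSeries.X j : P2 R) ∈ maximalIdeal (P2 R) := fun j =>
    (Cohen12.mem_maximalIdeal_powerSeries 2).2 (by rw [MvPowerSeries.constantCoeff_X]; exact zero_mem _)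
  have hloc : (maximalIdeal (P2 R)).map φ ≤ maximalIdeal S := by
    rw [Cohen12.maximalIdeal_powerSeries, Ideal.map_sup, Ideal.map_map, Ideal.map_span]
    refine sup_le ?_ (Ideal.span_le.mpr ?_)
    · rw [show φ.comp (MvPowerSeries.C : R →+* P2 R) = algebraMap R S from RingHom.ext hC]
      exact hM
    · rintro _ ⟨_, ⟨i, rfl⟩, rfl⟩
      fin_cases i
      · exact hX0.symm ▸ hUlm
      · exact hX1.symm ▸ hVlm
  have hsurj : Function.Surjective φ := by
    refine CAlg6.surjective_of_cotangent φ hloc (fun z => ?_) (le_sup_of_le_left ?_)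
    · obtain ⟨x, rfl⟩ := hres.2 z
      obtain ⟨r, rfl⟩ := residue_surjective x
      exact ⟨MvPowerSeries.C r, by
        show residue S (φ _) = _
        rw [hC, ResidueField.map_residue]⟩
    · refine hgen.le.trans (sup_le (Ideal.span_le.2 ?_) hMle)
      rintro _ (rfl | rfl)
      · have h := sub_mem (hX0 ▸ Ideal.mem_map_of_mem φ (hXmax 0)) (hMle hUlU)
        rwa [sub_sub_cancel] at h
      · have h := sub_mem (hX1 ▸ Ideal.mem_map_of_mem φ (hXmax 1)) (hMle hVlV)
        rwa [sub_sub_cancel] at h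
  let J : Ideal (P2 R) := Ideal.span {rel R t}
  have hJ : ∀ x ∈ J, φ x = 0 := fun x hx => by
    obtain ⟨c, rfl⟩ := Ideal.mem_span_singleton'.1 hx
    rw [map_mul, map_sub φ, map_mul φ, hX0, hX1, hC, hUV', sub_self, mul_zero]
  let ψ : P2 R ⧸ J →+* S := Ideal.Quotient.lift J φ hJ
  have halg : (algebraMap R (P2 R ⧸ J)) = (Ideal.Quotient.mk J).comp MvPowerSeries.C := RingHom.ext fun c => by
    show Ideal.Quotient.mk J (algebraMap R (P2 R) c) = _
    rw [MvPowerSeries.algebraMap_apply, Algebra.algebraMap_self_apply]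
    rfl
  let ψl : (P2 R ⧸ J) →ₐ[R] S := AlgHom.mk ψ fun c => by
    show ψ (algebraMap R (P2 R ⧸ J) c) = _
    rw [halg]
    exact hC c
  have hψs : Function.Surjective ψl := Ideal.Quotient.lift_surjective_of_surjective J hJ hsurj
  let mQ : Ideal (P2 R ⧸ J) := (maximalIdeal R).map (algebraMap R (P2 R ⧸ J))
  have hkR : ∀ r : R, ∃ c : k, r - algebraMap k R c ∈ maximalIdeal R := fun r => by
    obtain ⟨c, hc⟩ := hkS (algebraMap R S r)
    refine ⟨c, fun hu => hc ?_⟩
    have := hu.map (algebraMap R S)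
    rwa [map_sub, ← IsScalarTower.algebraMap_apply] at this
  let resk : k →+* ResidueField R := (residue R).comp (algebraMap k R)
  have hresk : Function.Bijective resk := ⟨resk.injective, fun x => by
    obtain ⟨r, rfl⟩ := residue_surjective x
    obtain ⟨c, hc⟩ := hkR r
    exact ⟨c, (Ideal.Quotient.eq.2 hc).symm⟩⟩
  let rk : k ≃+* ResidueField R := RingEquiv.ofBijective resk hresk
  let ρ : R →+* k := rk.symm.toRingHom.comp (residue R)
  have hρs : Function.Surjective ρ := rk.symm.surjective.comp residue_surjective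
  have hρ0 : ∀ c, ρ c = 0 ↔ c ∈ maximalIdeal R := fun c =>
    (map_eq_zero_iff rk.symm rk.symm.injective).trans (residue_eq_zero_iff c)
  let red : P2 R →+* N k := (Ideal.Quotient.mk _).comp (MvPowerSeries.map ρ)
  have hmaps : Function.Surjective (MvPowerSeries.map (σ := Fin 2) ρ) := fun g =>
    ⟨fun i => Function.surjInv hρs (g i),
      MvPowerSeries.ext fun i => by rw [MvPowerSeries.coeff_map]; exact Function.surjInv_eq hρs _⟩
  have hreds : Function.Surjective red := Ideal.Quotient.mk_surjective.comp hmaps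
  have hrho : MvPowerSeries.map (σ := Fin 2) ρ (rel R t) = MvPowerSeries.X 0 * MvPowerSeries.X 1 := by
    rw [map_sub, map_mul, MvPowerSeries.map_X, MvPowerSeries.map_X, MvPowerSeries.map_C,
      (hρ0 t).2 htm, map_zero, sub_zero]
  have hredJ : J ≤ RingHom.ker red := by
    rw [Ideal.span_le, Set.singleton_subset_iff, SetLike.mem_coe, RingHom.mem_ker, RingHom.comp_apply, hrho,
      Ideal.Quotient.eq_zero_iff_mem]
    exact Ideal.mem_span_singleton_self _
  let red' : P2 R ⧸ J →+* N k := Ideal.Quotient.lift J red hredJ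
  have hred'ker : RingHom.ker red' ≤ mQ := by
    intro z hz
    obtain ⟨f, rfl⟩ := Ideal.Quotient.mk_surjective z
    have hz' : MvPowerSeries.map ρ f ∈ Ideal.span {(MvPowerSeries.X 0 * MvPowerSeries.X 1 : P2 k)} :=
      Ideal.Quotient.eq_zero_iff_mem.1 hz
    obtain ⟨c, hc⟩ := Ideal.mem_span_singleton'.1 hz'
    obtain ⟨c, rfl⟩ := hmaps c
    have hmem : f - c * rel R t ∈ (maximalIdeal R).map (MvPowerSeries.C : R →+* P2 R) := by
      refine (mem_map_C_iff _ (IsNoetherian.noetherian _) _).1 fun d => (hρ0 _).1 ?_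
      rw [← MvPowerSeries.coeff_map, map_sub, map_mul, hrho, hc, sub_self, map_zero]
    have h := Ideal.mem_map_of_mem (Ideal.Quotient.mk J) hmem
    rw [Ideal.map_map, map_sub, Ideal.Quotient.eq_zero_iff_mem.2
      (Ideal.mul_mem_left J c (Ideal.mem_span_singleton_self _)), sub_zero, ← halg] at h
    exact h
  have hred's : Function.Surjective red' := Ideal.Quotient.lift_surjective_of_surjective J hredJ hreds
  have hmQM : ∀ z ∈ mQ, ψ z ∈ M := fun z hz => by
    have hle : mQ ≤ M.comap ψ := Ideal.map_le_iff_le_comap.2 fun c hc => by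
      rw [Ideal.mem_comap, Ideal.mem_comap, show ψ (algebraMap R (P2 R ⧸ J) c) = algebraMap R S c from ψl.commutes c]
      exact Ideal.mem_map_of_mem _ hc
    exact hle hz
  have hred0 : ∀ z, red' z = 0 → q (ψ z) = 0 := fun z hz => by
    rw [← RingHom.mem_ker, hkerq]
    exact hmQM z (hred'ker hz)
  let F : N k →+* N k := red'.liftOfSurjective hred's ⟨q.comp ψ, hred0⟩
  have hF : ∀ z, F (red' z) = q (ψ z) := fun z => RingHom.liftOfRightInverse_comp_apply _ _ _ _ z
  have hFs : Function.Surjective F := fun y => by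
    obtain ⟨b, rfl⟩ := hq y
    obtain ⟨z, rfl⟩ := hψs b
    exact ⟨red' z, hF z⟩
  have : IsNoetherianRing (N k) := isNoetherianRing_of_surjective _ _ red hreds
  have hFi := injective_of_surjective_endo F hFs
  have hkm : RingHom.ker ψ ≤ mQ := fun z hz => hred'ker (hFi (by
    rw [hF, RingHom.mem_ker.1 hz, map_zero, map_zero]))
  have hQloc : IsLocalRing (P2 R ⧸ J) := by
    have : Nontrivial (P2 R ⧸ J) := ψ.domain_nontrivial
    exact .of_surjective' (Ideal.Quotient.mk J) Ideal.Quotient.mk_surjective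
  have hker : RingHom.ker ψ = ⊥ := by
    refine Submodule.eq_bot_of_le_smul_of_le_jacobson_bot (maximalIdeal (P2 R ⧸ J)) _ (IsNoetherian.noetherian _)
      (fun z hz => ?_) (IsLocalRing.jacobson_eq_maximalIdeal (⊥ : Ideal _) bot_ne_top).ge
    have hzJ : z ∈ maximalIdeal R • (⊤ : Submodule R (P2 R ⧸ J)) := by
      rw [Ideal.smul_top_eq_map]; exact hkm hz
    have h := FlatNil62.mem_smul_of_flat_range ψl.toLinearMap hψs (maximalIdeal R) (k := z) hz hzJ
    refine Submodule.smul_induction_on h (fun c hc y hy => ?_) (fun _ _ => add_mem)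
    rw [Algebra.smul_def c y]
    refine (Submodule.smul_mem_smul ?_ hy : algebraMap R (P2 R ⧸ J) c • y ∈ maximalIdeal (P2 R ⧸ J) • RingHom.ker ψ)
    intro hunit
    have h1 : algebraMap R S c ∈ maximalIdeal S := map_nonunit (algebraMap R S) c hc
    exact h1 (ψl.commutes c ▸ hunit.map ψl)
  have hinj : Function.Injective ψl := (RingHom.injective_iff_ker_eq_bot ψ).2 hker
  let f : S ≃ₐ[R] (P2 R ⧸ J) := (AlgEquiv.ofBijective ψl ⟨hinj, hψs⟩).symm
  refine ⟨t, c1, c0, by rw [sq, hc1], by rw [sq, hc0], fun hneg => ?_, f, ?_, ?_⟩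
  · have hinjR : Function.Injective (algebraMap R S) := by
      have : Module.FaithfullyFlat R S := Module.FaithfullyFlat.of_flat_of_isLocalHom
      exact FaithfulSMul.algebraMap_injective R S
    refine hinjR ?_
    rw [map_zero]
    have h1 := congrArg σ hUV'
    rw [map_mul, hσl, hσl', σ.commutes] at h1
    have hab : algebraMap R S a * algebraMap R S b = -1 := by
      have h3 : c0 * c1 = -1 := by rw [hneg]; linear_combination -hc0
      rw [← map_mul, show a * b = algebraMap k R (c0 * c1) from (map_mul _ _ _).symm, h3, map_neg, map_one,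
        map_neg, map_one]
    have hh' : 2 * algebraMap R S h = 1 := by rw [← map_ofNat (algebraMap R S) 2, ← map_mul, hh, map_one]
    linear_combination -(algebraMap R S h) * h1 + (algebraMap R S h) * Ul * Vl * hab
      - (algebraMap R S h) * hUV' - algebraMap R S t * hh'
  · have hs : f.symm (Ideal.Quotient.mk _ (MvPowerSeries.X 0)) = Ul := hX0
    rw [hs, hσl, map_mul, AlgEquiv.commutes, ← hs, AlgEquiv.apply_symm_apply]
    exact (Algebra.smul_def _ _).symm
  · have hs : f.symm (Ideal.Quotient.mk _ (MvPowerSeries.X 1)) = Vl := hX1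
    rw [hs, hσl', map_mul, AlgEquiv.commutes, ← hs, AlgEquiv.apply_symm_apply]
    exact (Algebra.smul_def _ _).symm

end Groth.Agent.ArSing32.NodeInvol
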