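import Groth.Agent.ArSing32.Basic
import Groth.Agent.CAlg6.CompleteSurj
import Mathlib.RingTheory.MvPowerSeries.Derivative
import Mathlib.RingTheory.PowerSeries.Order
import Mathlib.FieldTheory.IsAlgClosed.Basic

/-!
# Plane curve germs: coordinates changes, the rank one and rank two normal forms
-/

set_option autoImplicit false

noncomputable section

namespace Groth.Agent.ArSing32

open CAlg6

universe u

variable {k : Type u} [Field k]

/-- The first variable. -/
abbrev xx : MvPowerSeries (Fin 2) k := MvPowerSeries.X 0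

/-- The second variable. -/
abbrev yy : MvPowerSeries (Fin 2) k := MvPowerSeries.X 1

theorem ext_local {Q : Type*} [CommRing Q] [Algebra k Q] [IsLocalRing Q]
    [IsNoetherianRing Q] {n : ℕ} {ψ₁ ψ₂ : MvPowerSeries (Fin n) k →ₐ[k] Q}
    (h0 : ∀ i, ψ₁ (MvPowerSeries.X i) ∈ IsLocalRing.maximalIdeal Q)
    (h : ∀ i, ψ₁ (MvPowerSeries.X i) = ψ₂ (MvPowerSeries.X i)) : ψ₁ = ψ₂ := by
  have key : ∀ (N : ℕ) (f : MvPowerSeries (Fin n) k),
      ψ₁ f - ψ₂ f ∈ IsLocalRing.maximalIdeal Q ^ N := by
    intro N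
    induction N with
    | zero => simp
    | succ N ih =>
      intro f
      have h1 : OrdGE 1 (f - MvPowerSeries.C (MvPowerSeries.constantCoeff f)) :=
        ordGE_one_iff.2 (by simp)
      obtain ⟨g, -, hg⟩ := exists_decomp (N := 0) h1
      rw [sub_eq_iff_eq_add] at hg
      rw [hg, map_add, map_add, map_sum, map_sum,
        show MvPowerSeries.C (MvPowerSeries.constantCoeff f) =
          algebraMap k (MvPowerSeries (Fin n) k) (MvPowerSeries.constantCoeff f) from rfl,
        AlgHom.commutes, AlgHom.commutes, add_sub_add_right_eq_sub, ← Finset.sum_sub_distrib]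
      refine Ideal.sum_mem _ fun i _ => ?_
      rw [map_mul, map_mul, ← h i, ← mul_sub, pow_succ']
      exact Ideal.mul_mem_mul (h0 i) (ih _)
  refine AlgHom.ext fun f => sub_eq_zero.1 ?_
  rw [← Ideal.mem_bot, ← Ideal.iInf_pow_eq_bot_of_isLocalRing (IsLocalRing.maximalIdeal Q)
    (IsLocalRing.maximalIdeal.isMaximal Q).ne_top, Ideal.mem_iInf]
  exact fun N => key N f

theorem degree_ind (d : Fin 2 →₀ ℕ) : d.degree = d 0 + d 1 := by
  rw [Finsupp.degree_eq_sum, Fin.sum_univ_two]

theorem ordGE_iff_ind {N : ℕ} {f : MvPowerSeries (Fin 2) k} :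
    OrdGE N f ↔ ∀ i j, i + j < N → MvPowerSeries.coeff (ind i j) f = 0 :=
  ⟨fun h i j hij => h _ (by rw [degree_ind]; simpa using hij), fun h d hd => by
    rw [← ind_self d]; exact h _ _ (by rwa [degree_ind] at hd)⟩

theorem OrdGE.sub' {N : ℕ} {f g : MvPowerSeries (Fin 2) k} (hf : OrdGE N f) (hg : OrdGE N g) :
    OrdGE N (f - g) := fun d hd => by rw [map_sub, hf d hd, hg d hd, sub_zero]

theorem OrdGE.mul_any {N : ℕ} {f : MvPowerSeries (Fin 2) k} (g : MvPowerSeries (Fin 2) k)
    (hf : OrdGE N f) : OrdGE N (f * g) := by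
  simpa using hf.mul (ordGE_zero g)

/-- Constant coefficients are preserved by algebra maps. -/
theorem constantCoeff_endo (φ : MvPowerSeries (Fin 2) k →ₐ[k] MvPowerSeries (Fin 2) k)
    (f : MvPowerSeries (Fin 2) k) :
    MvPowerSeries.constantCoeff (φ f) = MvPowerSeries.constantCoeff f := by
  set c := MvPowerSeries.constantCoeff (φ f)
  have hnu : ¬ IsUnit (f - MvPowerSeries.C c) := fun h => by
    have h' := h.map φ
    rw [map_sub, show φ (MvPowerSeries.C c) = MvPowerSeries.C c from φ.commutes c,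
      MvPowerSeries.isUnit_iff_constantCoeff] at h'
    simp [c] at h'
  rw [MvPowerSeries.isUnit_iff_constantCoeff, isUnit_iff_ne_zero, not_not, map_sub,
    MvPowerSeries.constantCoeff_C, sub_eq_zero] at hnu
  exact hnu.symm

theorem ordGE_map {N : ℕ} (φ : MvPowerSeries (Fin 2) k →ₐ[k] MvPowerSeries (Fin 2) k)
    {f : MvPowerSeries (Fin 2) k} (hf : OrdGE N f) : OrdGE N (φ f) :=
  ordGE_algHom φ (fun i => by rw [constantCoeff_endo, MvPowerSeries.constantCoeff_X]) N f hf

theorem hasSubst_pair {σ : Type*} {a b : MvPowerSeries σ k}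
    (ha : MvPowerSeries.constantCoeff a = 0) (hb : MvPowerSeries.constantCoeff b = 0) :
    MvPowerSeries.HasSubst (![a, b] : Fin 2 → MvPowerSeries σ k) :=
  MvPowerSeries.hasSubst_of_constantCoeff_zero fun i => by fin_cases i <;> simp [ha, hb]

/-- The endomorphism `x ↦ a`, `y ↦ b`. -/
def endo (a b : MvPowerSeries (Fin 2) k) (ha : MvPowerSeries.constantCoeff a = 0)
    (hb : MvPowerSeries.constantCoeff b = 0) :
    MvPowerSeries (Fin 2) k →ₐ[k] MvPowerSeries (Fin 2) k :=
  MvPowerSeries.substAlgHom (hasSubst_pair ha hb)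

theorem endo_xx {a b : MvPowerSeries (Fin 2) k} (ha : MvPowerSeries.constantCoeff a = 0)
    (hb : MvPowerSeries.constantCoeff b = 0) : endo a b ha hb xx = a :=
  MvPowerSeries.substAlgHom_X _ _

theorem endo_yy {a b : MvPowerSeries (Fin 2) k} (ha : MvPowerSeries.constantCoeff a = 0)
    (hb : MvPowerSeries.constantCoeff b = 0) : endo a b ha hb yy = b :=
  MvPowerSeries.substAlgHom_X _ _

theorem coeff_single_eq_ind (f : MvPowerSeries (Fin 2) k) :
    MvPowerSeries.coeff (Finsupp.single (0 : Fin 2) 1) f = MvPowerSeries.coeff (ind 1 0) f ∧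
      MvPowerSeries.coeff (Finsupp.single (1 : Fin 2) 1) f = MvPowerSeries.coeff (ind 0 1) f := by
  constructor <;> congr 2 <;> simp [ind]

theorem endo_bijective {a b : MvPowerSeries (Fin 2) k} (ha : MvPowerSeries.constantCoeff a = 0)
    (hb : MvPowerSeries.constantCoeff b = 0)
    (hdet : MvPowerSeries.coeff (ind 1 0) a * MvPowerSeries.coeff (ind 0 1) b -
      MvPowerSeries.coeff (ind 0 1) a * MvPowerSeries.coeff (ind 1 0) b ≠ 0) :
    Function.Bijective (endo a b ha hb) := by
  refine bijective_of_isUnit_det _ (fun i => by rw [constantCoeff_endo, MvPowerSeries.constantCoeff_X]) ?_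
  rw [isUnit_iff_ne_zero, Matrix.det_fin_two]
  simp only [Matrix.of_apply, (coeff_single_eq_ind _).1, (coeff_single_eq_ind _).2]
  rwa [show endo a b ha hb (MvPowerSeries.X 0) = a from endo_xx ha hb,
    show endo a b ha hb (MvPowerSeries.X 1) = b from endo_yy ha hb]

theorem coeff_ind_xx (i j : ℕ) :
    MvPowerSeries.coeff (ind i j) (xx : MvPowerSeries (Fin 2) k) =
      if i = 1 ∧ j = 0 then 1 else 0 := by
  classical
  rw [MvPowerSeries.coeff_X]
  refine if_ctx_congr ?_ (fun _ => rfl) fun _ => rfl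
  rw [show (Finsupp.single (0 : Fin 2) 1) = ind 1 0 by simp [ind], ind_inj]

theorem coeff_ind_yy (i j : ℕ) :
    MvPowerSeries.coeff (ind i j) (yy : MvPowerSeries (Fin 2) k) =
      if i = 0 ∧ j = 1 then 1 else 0 := by
  classical
  rw [MvPowerSeries.coeff_X]
  refine if_ctx_congr ?_ (fun _ => rfl) fun _ => rfl
  rw [show (Finsupp.single (1 : Fin 2) 1) = ind 0 1 by simp [ind], ind_inj]

theorem coeff_ind_mul_one {a b : MvPowerSeries (Fin 2) k} (ha : MvPowerSeries.constantCoeff a = 0)
    (i j : ℕ) (hij : i + j = 1) :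
    MvPowerSeries.coeff (ind i j) (a * b) =
      MvPowerSeries.coeff (ind i j) a * MvPowerSeries.constantCoeff b := by
  have h : OrdGE 2 (a * (b - MvPowerSeries.C (MvPowerSeries.constantCoeff b))) :=
    (ordGE_one_iff.2 ha).mul (ordGE_one_iff.2 (by simp))
  have := ordGE_iff_ind.1 h i j (by omega)
  rwa [mul_sub, map_sub, sub_eq_zero, mul_comm a (MvPowerSeries.C _), MvPowerSeries.coeff_C_mul,
    mul_comm (MvPowerSeries.constantCoeff b)] at this

/-- A series of order one in the variables. -/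
theorem exists_linear {F : MvPowerSeries (Fin 2) k} (hF : MvPowerSeries.constantCoeff F = 0) :
    ∃ g₀ g₁, F = xx * g₀ + yy * g₁ ∧
      MvPowerSeries.constantCoeff g₀ = MvPowerSeries.coeff (ind 1 0) F ∧
      MvPowerSeries.constantCoeff g₁ = MvPowerSeries.coeff (ind 0 1) F := by
  obtain ⟨g, -, hg⟩ := exists_decomp (N := 0) (ordGE_one_iff.2 hF)
  rw [Fin.sum_univ_two] at hg
  refine ⟨g 0, g 1, hg, ?_, ?_⟩ <;>
    (rw [hg, map_add, coeff_ind_mul_one (by simp) _ _ (by norm_num),
      coeff_ind_mul_one (by simp) _ _ (by norm_num), coeff_ind_xx, coeff_ind_yy]; simp)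

theorem coeff_endo_one (φ : MvPowerSeries (Fin 2) k →ₐ[k] MvPowerSeries (Fin 2) k)
    {F : MvPowerSeries (Fin 2) k} (hF : MvPowerSeries.constantCoeff F = 0) (i j : ℕ) (hij : i + j = 1) :
    MvPowerSeries.coeff (ind i j) (φ F) =
      MvPowerSeries.coeff (ind 1 0) F * MvPowerSeries.coeff (ind i j) (φ xx) +
        MvPowerSeries.coeff (ind 0 1) F * MvPowerSeries.coeff (ind i j) (φ yy) := by
  obtain ⟨g₀, g₁, hg, h0, h1⟩ := exists_linear hF
  rw [← h0, ← h1]
  nth_rw 1 [hg]
  rw [map_add, map_mul, map_mul, map_add,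
    coeff_ind_mul_one (by rw [constantCoeff_endo, MvPowerSeries.constantCoeff_X]) _ _ hij,
    coeff_ind_mul_one (by rw [constantCoeff_endo, MvPowerSeries.constantCoeff_X]) _ _ hij,
    constantCoeff_endo, constantCoeff_endo]
  ring

theorem quad_decomp {F : MvPowerSeries (Fin 2) k} (hF : OrdGE 2 F) :
    ∃ g, OrdGE 3 g ∧ F = MvPowerSeries.C (MvPowerSeries.coeff (ind 2 0) F) * xx ^ 2 +
      MvPowerSeries.C (MvPowerSeries.coeff (ind 1 1) F) * (xx * yy) +
      MvPowerSeries.C (MvPowerSeries.coeff (ind 0 2) F) * yy ^ 2 + g := by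
  classical
  refine ⟨F - (MvPowerSeries.C (MvPowerSeries.coeff (ind 2 0) F) * xx ^ 2 +
      MvPowerSeries.C (MvPowerSeries.coeff (ind 1 1) F) * (xx * yy) +
      MvPowerSeries.C (MvPowerSeries.coeff (ind 0 2) F) * yy ^ 2), ?_, by ring⟩
  rw [ordGE_iff_ind]
  intro i j hij
  have e1 : (xx : MvPowerSeries (Fin 2) k) ^ 2 = MvPowerSeries.monomial (ind 2 0) 1 := by
    rw [MvPowerSeries.X_pow_eq]; simp [ind]
  have e2 : (xx : MvPowerSeries (Fin 2) k) * yy = MvPowerSeries.monomial (ind 1 1) 1 := by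
    show MvPowerSeries.X 0 * MvPowerSeries.X 1 = _
    rw [MvPowerSeries.X_def, MvPowerSeries.X_def, MvPowerSeries.monomial_mul_monomial]; simp [ind]
  have e3 : (yy : MvPowerSeries (Fin 2) k) ^ 2 = MvPowerSeries.monomial (ind 0 2) 1 := by
    rw [MvPowerSeries.X_pow_eq]; simp [ind]
  rw [map_sub, map_add, map_add, MvPowerSeries.coeff_C_mul, MvPowerSeries.coeff_C_mul,
    MvPowerSeries.coeff_C_mul, e1, e2, e3, MvPowerSeries.coeff_monomial,
    MvPowerSeries.coeff_monomial, MvPowerSeries.coeff_monomial]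
  simp only [ind_inj]
  by_cases h2 : i + j < 2
  · rw [ordGE_iff_ind.1 hF i j h2, if_neg (by omega), if_neg (by omega), if_neg (by omega)]
    ring
  · obtain ⟨rfl, rfl⟩ | ⟨rfl, rfl⟩ | ⟨rfl, rfl⟩ :
        (i = 2 ∧ j = 0) ∨ (i = 1 ∧ j = 1) ∨ (i = 0 ∧ j = 2) := by omega
    all_goals simp

/-- Restriction to the `x`-axis. -/
def r₁ : MvPowerSeries (Fin 2) k →ₐ[k] PowerSeries k :=
  MvPowerSeries.substAlgHom (hasSubst_pair (a := (PowerSeries.X : PowerSeries k))
    (b := (0 : PowerSeries k)) PowerSeries.constantCoeff_X (map_zero _))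

/-- Restriction to the `y`-axis. -/
def r₀ : MvPowerSeries (Fin 2) k →ₐ[k] PowerSeries k :=
  MvPowerSeries.substAlgHom (hasSubst_pair (a := (0 : PowerSeries k))
    (b := (PowerSeries.X : PowerSeries k)) (map_zero _) PowerSeries.constantCoeff_X)

theorem r₁_xx : r₁ (xx : MvPowerSeries (Fin 2) k) = PowerSeries.X := MvPowerSeries.substAlgHom_X _ _
theorem r₁_yy : r₁ (yy : MvPowerSeries (Fin 2) k) = 0 := MvPowerSeries.substAlgHom_X _ _
theorem r₀_xx : r₀ (xx : MvPowerSeries (Fin 2) k) = 0 := MvPowerSeries.substAlgHom_X _ _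
theorem r₀_yy : r₀ (yy : MvPowerSeries (Fin 2) k) = PowerSeries.X := MvPowerSeries.substAlgHom_X _ _

theorem constantCoeff_psHom (r : MvPowerSeries (Fin 2) k →ₐ[k] PowerSeries k)
    (f : MvPowerSeries (Fin 2) k) :
    PowerSeries.constantCoeff (r f) = MvPowerSeries.constantCoeff f := by
  set c := PowerSeries.constantCoeff (r f)
  have hnu : ¬ IsUnit (f - MvPowerSeries.C c) := fun h => by
    have h' := h.map r
    rw [map_sub, show r (MvPowerSeries.C c) = PowerSeries.C c from r.commutes c,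
      PowerSeries.isUnit_iff_constantCoeff] at h'
    simp [c] at h'
  rw [MvPowerSeries.isUnit_iff_constantCoeff, isUnit_iff_ne_zero, not_not, map_sub,
    MvPowerSeries.constantCoeff_C, sub_eq_zero] at hnu
  exact hnu.symm

theorem coeff_axes (n : ℕ) : ∀ f : MvPowerSeries (Fin 2) k,
    PowerSeries.coeff n (r₁ f) = MvPowerSeries.coeff (ind n 0) f ∧
      PowerSeries.coeff n (r₀ f) = MvPowerSeries.coeff (ind 0 n) f := by
  induction n with
  | zero =>
    intro f
    rw [PowerSeries.coeff_zero_eq_constantCoeff, constantCoeff_psHom, constantCoeff_psHom,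
      show ind 0 0 = 0 by simp [ind], MvPowerSeries.coeff_zero_eq_constantCoeff_apply]
    exact ⟨rfl, rfl⟩
  | succ n ih =>
    intro f
    classical
    obtain ⟨g₀, g₁, hg, -, -⟩ := exists_linear
      (F := f - MvPowerSeries.C (MvPowerSeries.constantCoeff f)) (by simp)
    rw [sub_eq_iff_eq_add] at hg
    have hC : ∀ i j, i + j ≠ 0 → MvPowerSeries.coeff (ind i j)
        (MvPowerSeries.C (MvPowerSeries.constantCoeff f) : MvPowerSeries (Fin 2) k) = 0 :=
      fun i j hij => by
      rw [MvPowerSeries.coeff_C, if_neg]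
      intro h
      have h0 := DFunLike.congr_fun h 0
      have h1 := DFunLike.congr_fun h 1
      simp at h0 h1
      omega
    have hX : ∀ (g : MvPowerSeries (Fin 2) k) (i j : ℕ),
        MvPowerSeries.coeff (ind i j) (xx * g) =
          (if 1 ≤ i then MvPowerSeries.coeff (ind (i - 1) j) g else 0) ∧
        MvPowerSeries.coeff (ind i j) (yy * g) =
          (if 1 ≤ j then MvPowerSeries.coeff (ind i (j - 1)) g else 0) := fun g i j => by
      constructor <;>
        (simp only [xx, yy]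
         rw [MvPowerSeries.X_def, MvPowerSeries.coeff_monomial_mul]
         refine if_ctx_congr (by simp [Finsupp.le_def, Fin.forall_fin_two]) (fun _ => ?_) fun _ => rfl
         rw [one_mul]
         congr 2
         ext l; fin_cases l <;> simp)
    constructor
    · rw [hg, map_add r₁ (xx * g₀ + yy * g₁), map_add r₁ (xx * g₀), map_mul, map_mul, r₁_xx, r₁_yy, zero_mul, add_zero,
        show r₁ (MvPowerSeries.C (MvPowerSeries.constantCoeff f) : MvPowerSeries (Fin 2) k) =
          PowerSeries.C (MvPowerSeries.constantCoeff f) from r₁.commutes _,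
        map_add, map_add, map_add, PowerSeries.coeff_succ_X_mul, (ih g₀).1, PowerSeries.coeff_C,
        if_neg (Nat.succ_ne_zero n), hC _ _ (by omega), (hX g₀ _ _).1, (hX g₁ _ _).2]
      simp
    · rw [hg, map_add r₀ (xx * g₀ + yy * g₁), map_add r₀ (xx * g₀), map_mul, map_mul, r₀_xx, r₀_yy, zero_mul, zero_add,
        show r₀ (MvPowerSeries.C (MvPowerSeries.constantCoeff f) : MvPowerSeries (Fin 2) k) =
          PowerSeries.C (MvPowerSeries.constantCoeff f) from r₀.commutes _,
        map_add, map_add, map_add, PowerSeries.coeff_succ_X_mul, (ih g₁).2, PowerSeries.coeff_C,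
        if_neg (Nat.succ_ne_zero n), hC _ _ (by omega), (hX g₀ _ _).1, (hX g₁ _ _).2]
      simp

theorem yy_dvd_iff {f : MvPowerSeries (Fin 2) k} : yy ∣ f ↔ r₁ f = 0 := by
  refine ⟨fun ⟨g, hg⟩ => by rw [hg, map_mul, r₁_yy, zero_mul], fun h => ?_⟩
  rw [MvPowerSeries.X_dvd_iff]
  intro d hd
  rw [← ind_self d, hd, ← (coeff_axes _ f).1, h, map_zero]

/-- Two curve germs are isomorphic. -/
def Iso (F G : MvPowerSeries (Fin 2) k) : Prop :=
  Nonempty ((MvPowerSeries (Fin 2) k ⧸ Ideal.span ({F} : Set (MvPowerSeries (Fin 2) k))) ≃ₐ[k]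
    (MvPowerSeries (Fin 2) k ⧸ Ideal.span ({G} : Set (MvPowerSeries (Fin 2) k))))

theorem Iso.symm {F G : MvPowerSeries (Fin 2) k} (h : Iso F G) : Iso G F := ⟨h.some.symm⟩

theorem Iso.trans {F G H : MvPowerSeries (Fin 2) k} (h : Iso F G) (h' : Iso G H) : Iso F H :=
  ⟨h.some.trans h'.some⟩

theorem iso_map {φ : MvPowerSeries (Fin 2) k →ₐ[k] MvPowerSeries (Fin 2) k}
    (hφ : Function.Bijective φ) {U F G : MvPowerSeries (Fin 2) k} (hU : IsUnit U)
    (h : F = U * φ G) : Iso G F := by
  refine ⟨Ideal.quotientEquivAlg _ _ (AlgEquiv.ofBijective φ hφ) ?_⟩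
  rw [Ideal.map_span, Set.image_singleton, h, Ideal.span_singleton_mul_left_unit hU]
  rfl

theorem iso_yy_of_linear {G : MvPowerSeries (Fin 2) k} (hG : MvPowerSeries.constantCoeff G = 0)
    (h : MvPowerSeries.coeff (ind 1 0) G ≠ 0 ∨ MvPowerSeries.coeff (ind 0 1) G ≠ 0) :
    ∃ φ : MvPowerSeries (Fin 2) k →ₐ[k] MvPowerSeries (Fin 2) k,
      Function.Bijective φ ∧ φ yy = G := by
  by_cases h1 : MvPowerSeries.coeff (ind 0 1) G = 0
  · refine ⟨endo yy G (MvPowerSeries.constantCoeff_X _) hG, endo_bijective _ _ ?_, endo_yy _ hG⟩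
    rw [coeff_ind_yy, coeff_ind_yy, h1]
    simpa using (h.resolve_right (not_not.2 h1))
  · refine ⟨endo xx G (MvPowerSeries.constantCoeff_X _) hG, endo_bijective _ _ ?_, endo_yy _ hG⟩
    rw [coeff_ind_xx, coeff_ind_xx]
    simpa using h1

theorem exists_sq_eq [IsAlgClosed k] (h2 : (2 : k) ≠ 0) {U : MvPowerSeries (Fin 2) k}
    (hU : IsUnit U) : ∃ v, IsUnit v ∧ v ^ 2 = U := by
  have hu0 : MvPowerSeries.constantCoeff U ≠ 0 :=
    isUnit_iff_ne_zero.1 (MvPowerSeries.isUnit_iff_constantCoeff.1 hU)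
  obtain ⟨s, hs⟩ := IsAlgClosed.exists_pow_nat_eq (MvPowerSeries.constantCoeff U) two_pos
  have hs0 : s ≠ 0 := fun h => hu0 (by rw [← hs, h, zero_pow two_ne_zero])
  set P : PowerSeries k := PowerSeries.C (2 * s) * PowerSeries.X + PowerSeries.X ^ 2
  have hP0 : PowerSeries.constantCoeff P = 0 := by simp [P]
  have hP1 : IsUnit (PowerSeries.coeff 1 P) := by
    simp [P, PowerSeries.coeff_X_pow, isUnit_iff_ne_zero, h2, hs0]
  set z := P.substInvOfIsUnit hP1
  have hz : PowerSeries.C (2 * s) * z + z ^ 2 = PowerSeries.X := by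
    have hzs : PowerSeries.HasSubst z := PowerSeries.HasSubst.substInvOfIsUnit _ _
    have e := PowerSeries.subst_substInvOfIsUnit_right P hP0 hP1
    rw [← PowerSeries.coe_substAlgHom hzs, map_add, map_mul, map_pow, PowerSeries.substAlgHom_X,
      show PowerSeries.substAlgHom hzs (PowerSeries.C (2 * s)) = PowerSeries.C (2 * s) from
        (PowerSeries.substAlgHom hzs).commutes _] at e
    exact e
  set V := U - MvPowerSeries.C (MvPowerSeries.constantCoeff U)
  have hV0 : MvPowerSeries.constantCoeff V = 0 := by simp [V]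
  have hV : PowerSeries.HasSubst V := PowerSeries.HasSubst.of_constantCoeff_zero hV0
  refine ⟨MvPowerSeries.C s + PowerSeries.substAlgHom hV z, ?_, ?_⟩
  · rw [MvPowerSeries.isUnit_iff_constantCoeff, isUnit_iff_ne_zero, map_add,
      MvPowerSeries.constantCoeff_C, PowerSeries.coe_substAlgHom,
      PowerSeries.constantCoeff_subst_eq_zero hV0 _ (PowerSeries.constantCoeff_substInvOfIsUnit _ _),
      add_zero]
    exact hs0
  · have e := congrArg (PowerSeries.substAlgHom hV) hz
    rw [map_add, map_mul, map_pow, PowerSeries.substAlgHom_X,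
      show PowerSeries.substAlgHom hV (PowerSeries.C (2 * s)) = MvPowerSeries.C (2 * s) from
        (PowerSeries.substAlgHom hV).commutes _, map_mul, map_ofNat] at e
    have hsq : (MvPowerSeries.C s : MvPowerSeries (Fin 2) k) ^ 2 = MvPowerSeries.C (MvPowerSeries.constantCoeff U) := by
      rw [← map_pow, hs]
    simp only [V] at e
    linear_combination e + hsq

theorem pderiv_shift {w : MvPowerSeries (Fin 2) k} (hw : MvPowerSeries.constantCoeff w = 0)
    (hwd : MvPowerSeries.pderiv k 1 w = 0) (F : MvPowerSeries (Fin 2) k) :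
    MvPowerSeries.pderiv k 1 (endo xx (yy + w) (MvPowerSeries.constantCoeff_X _) (by simp [hw]) F) =
      endo xx (yy + w) (MvPowerSeries.constantCoeff_X _) (by simp [hw])
        (MvPowerSeries.pderiv k 1 F) := by
  set θ := endo xx (yy + w) (MvPowerSeries.constantCoeff_X _) (by simp [hw])
  have hX : ∀ i, MvPowerSeries.pderiv k 1 (θ (MvPowerSeries.X i)) =
      θ (MvPowerSeries.pderiv k 1 (MvPowerSeries.X i)) := by
    intro i
    fin_cases i
    · show MvPowerSeries.pderiv k 1 (θ xx) = θ (MvPowerSeries.pderiv k 1 (MvPowerSeries.X 0))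
      rw [endo_xx, MvPowerSeries.pderiv_X_of_ne (by decide), map_zero]
    · show MvPowerSeries.pderiv k 1 (θ yy) = θ (MvPowerSeries.pderiv k 1 (MvPowerSeries.X 1))
      rw [endo_yy, map_add, MvPowerSeries.pderiv_X_self, hwd, add_zero, map_one]
  have key : ∀ (N : ℕ) (f : MvPowerSeries (Fin 2) k), OrdGE N
      (MvPowerSeries.pderiv k 1 (θ f) - θ (MvPowerSeries.pderiv k 1 f)) := by
    intro N
    induction N with
    | zero => exact fun f => ordGE_zero _
    | succ N ih =>
      intro f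
      obtain ⟨g, -, hg⟩ := exists_decomp (N := 0)
        (ordGE_one_iff.2 (show MvPowerSeries.constantCoeff
          (f - MvPowerSeries.C (MvPowerSeries.constantCoeff f)) = 0 by simp))
      rw [sub_eq_iff_eq_add] at hg
      rw [hg]
      simp only [map_add, map_sum, map_mul, MvPowerSeries.pderiv_C, add_zero,
        Derivation.leibniz, smul_eq_mul,
        show θ (MvPowerSeries.C (MvPowerSeries.constantCoeff f)) =
          MvPowerSeries.C (MvPowerSeries.constantCoeff f) from θ.commutes _, hX,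
        ← Finset.sum_sub_distrib]
      refine OrdGE.sum _ fun i _ => ?_
      rw [add_sub_add_right_eq_sub, ← mul_sub, add_comm N 1]
      exact (ordGE_one_iff.2 (by rw [constantCoeff_endo, MvPowerSeries.constantCoeff_X])).mul (ih _)
  exact sub_eq_zero.1 (eq_zero_of_forall_ordGE fun N => key N F)

end Groth.Agent.ArSing32
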