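import Groth.Agent.ArSing32.Plane

/-!
# Plane curve germs of multiplicity at most two
-/

set_option autoImplicit false

noncomputable section

namespace Groth.Agent.ArSing32

open CAlg6

universe u

variable {k : Type u} [Field k]

theorem coeff_yy_mul (g : MvPowerSeries (Fin 2) k) (i j : ℕ) :
    MvPowerSeries.coeff (ind i (j + 1)) (yy * g) = MvPowerSeries.coeff (ind i j) g := by
  classical
  show MvPowerSeries.coeff (ind i (j + 1)) (MvPowerSeries.X 1 * g) = _
  rw [MvPowerSeries.X_def, MvPowerSeries.coeff_monomial_mul,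
    if_pos (by simp [Finsupp.le_def, Fin.forall_fin_two]), one_mul]
  congr 2
  ext l; fin_cases l <;> simp

/-- A series in `x` alone. -/
def inX : PowerSeries k →ₐ[k] MvPowerSeries (Fin 2) k :=
  PowerSeries.substAlgHom (PowerSeries.HasSubst.of_constantCoeff_zero
    (MvPowerSeries.constantCoeff_X (0 : Fin 2)))

theorem coeff_inX (a : PowerSeries k) (i j : ℕ) :
    MvPowerSeries.coeff (ind i j) (inX a) = if j = 0 then PowerSeries.coeff i a else 0 := by
  rw [inX, PowerSeries.coe_substAlgHom, coeff_subst_X0]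

theorem constantCoeff_inX (a : PowerSeries k) :
    MvPowerSeries.constantCoeff (inX a) = PowerSeries.constantCoeff a := by
  rw [← MvPowerSeries.coeff_zero_eq_constantCoeff_apply, show (0 : Fin 2 →₀ ℕ) = ind 0 0 by
    simp [ind], coeff_inX, if_pos rfl, PowerSeries.coeff_zero_eq_constantCoeff]

theorem r₁_inX (a : PowerSeries k) : r₁ (inX a) = a :=
  PowerSeries.ext fun n => by rw [(coeff_axes n _).1, coeff_inX, if_pos rfl]

theorem r₀_inX (a : PowerSeries k) :
    r₀ (inX a) = PowerSeries.C (PowerSeries.constantCoeff a) :=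
  PowerSeries.ext fun n => by
    rw [(coeff_axes n _).2, coeff_inX, PowerSeries.coeff_C,
      PowerSeries.coeff_zero_eq_constantCoeff]

theorem pderiv_inX (a : PowerSeries k) : MvPowerSeries.pderiv k 1 (inX a) = 0 := by
  refine ext_ind fun i j => ?_
  rw [MvPowerSeries.coeff_pderiv,
    show ind i j + Finsupp.single 1 1 = ind i (j + 1) by ext l; fin_cases l <;> simp, coeff_inX,
    if_neg (Nat.succ_ne_zero j), zero_mul, map_zero]

theorem endo_inX {b : MvPowerSeries (Fin 2) k} (hb : MvPowerSeries.constantCoeff b = 0)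
    (a : PowerSeries k) :
    endo xx b (MvPowerSeries.constantCoeff_X _) hb (inX a) = inX a := by
  have hX : PowerSeries.HasSubst (MvPowerSeries.X 0 : MvPowerSeries (Fin 2) k) :=
    PowerSeries.HasSubst.of_constantCoeff_zero (MvPowerSeries.constantCoeff_X _)
  have h := MvPowerSeries.subst_comp_subst_apply (R := k) hX.const
    (hasSubst_pair (a := (xx : MvPowerSeries (Fin 2) k)) (MvPowerSeries.constantCoeff_X _) hb) a
  rw [endo, inX, PowerSeries.coe_substAlgHom, MvPowerSeries.coe_substAlgHom, PowerSeries.subst, h]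
  congr 1
  funext _
  rw [MvPowerSeries.subst_X (hasSubst_pair (MvPowerSeries.constantCoeff_X _) hb)]
  rfl

theorem iso_map' {φ : MvPowerSeries (Fin 2) k →ₐ[k] MvPowerSeries (Fin 2) k}
    (hφ : Function.Bijective φ) (F : MvPowerSeries (Fin 2) k) : Iso F (φ F) :=
  iso_map hφ isUnit_one (one_mul _).symm

theorem coeff_two_map {F : MvPowerSeries (Fin 2) k} (hF : OrdGE 2 F)
    (φ : MvPowerSeries (Fin 2) k →ₐ[k] MvPowerSeries (Fin 2) k) {α β : k}
    (hu : r₀ (φ xx) = PowerSeries.C α * PowerSeries.X)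
    (hv : r₀ (φ yy) = PowerSeries.C β * PowerSeries.X) :
    MvPowerSeries.coeff (ind 0 2) (φ F) = MvPowerSeries.coeff (ind 2 0) F * α ^ 2 +
      MvPowerSeries.coeff (ind 1 1) F * (α * β) + MvPowerSeries.coeff (ind 0 2) F * β ^ 2 := by
  obtain ⟨g, hg, e⟩ := quad_decomp hF
  have hg' : PowerSeries.coeff 2 (r₀ (φ g)) = 0 := by
    rw [(coeff_axes 2 _).2]; exact ordGE_iff_ind.1 (ordGE_map φ hg) 0 2 (by norm_num)
  have hC : ∀ c : k, r₀ (φ (MvPowerSeries.C c)) = PowerSeries.C c := fun c => by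
    rw [show φ (MvPowerSeries.C c) = MvPowerSeries.C c from φ.commutes c]; exact r₀.commutes c
  have e' : r₀ (φ F) = PowerSeries.C (MvPowerSeries.coeff (ind 2 0) F * α ^ 2 +
      MvPowerSeries.coeff (ind 1 1) F * (α * β) + MvPowerSeries.coeff (ind 0 2) F * β ^ 2) *
        PowerSeries.X ^ 2 + r₀ (φ g) := by
    conv_lhs => rw [e]
    simp only [map_add, map_mul, map_pow, hC, hu, hv]
    ring
  rw [← (coeff_axes 2 _).2, e', map_add, hg', add_zero, PowerSeries.coeff_C_mul,
    PowerSeries.coeff_X_pow, if_pos rfl, mul_one]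

theorem exists_iso_coeff_zero_two {F : MvPowerSeries (Fin 2) k} (hF : OrdGE 2 F)
    (hq : MvPowerSeries.coeff (ind 2 0) F ≠ 0 ∨ MvPowerSeries.coeff (ind 1 1) F ≠ 0 ∨
      MvPowerSeries.coeff (ind 0 2) F ≠ 0) :
    ∃ F', Iso F F' ∧ OrdGE 2 F' ∧ MvPowerSeries.coeff (ind 0 2) F' ≠ 0 := by
  by_cases h02 : MvPowerSeries.coeff (ind 0 2) F = 0
  swap
  · exact ⟨F, ⟨AlgEquiv.refl⟩, hF, h02⟩
  have hx : MvPowerSeries.constantCoeff (xx : MvPowerSeries (Fin 2) k) = 0 :=
    MvPowerSeries.constantCoeff_X _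
  have hy : MvPowerSeries.constantCoeff (yy : MvPowerSeries (Fin 2) k) = 0 :=
    MvPowerSeries.constantCoeff_X _
  by_cases h20 : MvPowerSeries.coeff (ind 2 0) F = 0
  · have hφ : Function.Bijective (endo (xx + yy : MvPowerSeries (Fin 2) k) yy (by simp) hy) :=
      endo_bijective _ _ (by simp [coeff_ind_xx, coeff_ind_yy])
    refine ⟨_, iso_map' hφ F, ordGE_map _ hF, ?_⟩
    rw [coeff_two_map hF _ (α := 1) (β := 1) (by rw [endo_xx, map_add, r₀_xx, r₀_yy]; simp)
      (by rw [endo_yy, r₀_yy]; simp), h20, h02]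
    simpa [h20, h02] using hq
  · have hφ : Function.Bijective (endo (yy : MvPowerSeries (Fin 2) k) xx hy hx) :=
      endo_bijective _ _ (by simp [coeff_ind_xx, coeff_ind_yy])
    refine ⟨_, iso_map' hφ F, ordGE_map _ hF, ?_⟩
    rw [coeff_two_map hF _ (α := 1) (β := 0) (by rw [endo_xx, r₀_yy]; simp)
      (by rw [endo_yy, r₀_xx]; simp)]
    simpa using h20

theorem exists_iso_normal [IsAlgClosed k] (h2 : (2 : k) ≠ 0) {F : MvPowerSeries (Fin 2) k}
    (hF : OrdGE 2 F) (hc : MvPowerSeries.coeff (ind 0 2) F ≠ 0) :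
    ∃ c₀ : PowerSeries k, PowerSeries.X ^ 2 ∣ c₀ ∧ Iso (yy ^ 2 + inX c₀) F := by
  classical
  have hx : MvPowerSeries.constantCoeff (xx : MvPowerSeries (Fin 2) k) = 0 :=
    MvPowerSeries.constantCoeff_X _
  have hsing : ∀ i j, ind i j + Finsupp.single 1 1 = ind i (j + 1) := fun i j => by
    ext l; fin_cases l <;> simp
  set G := MvPowerSeries.pderiv k 1 F with hGdef
  have hG0 : MvPowerSeries.constantCoeff G = 0 := by
    rw [← MvPowerSeries.coeff_zero_eq_constantCoeff_apply, show (0 : Fin 2 →₀ ℕ) = ind 0 0 by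
      simp [ind], hGdef, MvPowerSeries.coeff_pderiv, hsing,
      ordGE_iff_ind.1 hF 0 1 (by norm_num), zero_mul]
  have hG1 : MvPowerSeries.coeff (ind 0 1) G ≠ 0 := by
    rw [hGdef, MvPowerSeries.coeff_pderiv, hsing, ind_one]
    exact mul_ne_zero hc (by norm_num [h2])
  set χ := endo xx G hx hG0 with hχdef
  have hχ : Function.Bijective χ := endo_bijective _ _ (by simpa [coeff_ind_xx] using hG1)
  obtain ⟨W, hW⟩ := hχ.2 yy
  have hW0 : MvPowerSeries.constantCoeff W = 0 := by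
    rw [← constantCoeff_endo χ W, hW]; exact MvPowerSeries.constantCoeff_X _
  set ω := endo xx W hx hW0 with hωdef
  have hχω : χ.comp ω = AlgHom.id k (MvPowerSeries (Fin 2) k) := by
    refine algHom_ext (fun i => by rw [constantCoeff_endo, MvPowerSeries.constantCoeff_X]) ?_
    intro i
    fin_cases i
    · show χ (ω xx) = xx
      rw [hωdef, endo_xx, hχdef, endo_xx]
    · show χ (ω yy) = yy
      rw [hωdef, endo_yy, hW]
  have hωG : ω G = yy := hχ.1 (by
    rw [show χ (ω G) = G from AlgHom.congr_fun hχω G, hχdef, endo_yy])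
  set w := inX (r₁ W) with hwdef
  have hw0 : MvPowerSeries.constantCoeff w = 0 := by
    rw [hwdef, constantCoeff_inX, constantCoeff_psHom, hW0]
  set θ := endo xx (yy + w) hx (by simp [hw0]) with hθdef
  have hθ : Function.Bijective θ := endo_bijective _ _ (by
    simp [hwdef, coeff_ind_xx, coeff_ind_yy, coeff_inX])
  have hrθ : r₁ (θ G) = 0 := by
    have : r₁.comp θ = r₁.comp ω := by
      refine ext_local (fun i => ?_) fun i => ?_
      · rw [IsLocalRing.mem_maximalIdeal, mem_nonunits_iff, PowerSeries.isUnit_iff_constantCoeff,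
          AlgHom.comp_apply, constantCoeff_psHom, constantCoeff_endo,
          MvPowerSeries.constantCoeff_X]
        simp
      · fin_cases i
        · show r₁ (θ xx) = r₁ (ω xx)
          rw [hθdef, hωdef, endo_xx, endo_xx]
        · show r₁ (θ yy) = r₁ (ω yy)
          rw [hθdef, hωdef, endo_yy, endo_yy, map_add, r₁_yy, zero_add, hwdef, r₁_inX]
    rw [show r₁ (θ G) = r₁ (ω G) from AlgHom.congr_fun this G, hωG, r₁_yy]
  have hd : MvPowerSeries.pderiv k 1 (θ F) = θ G :=
    pderiv_shift hw0 (pderiv_inX _) F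
  have h1 : ∀ n, MvPowerSeries.coeff (ind n 1) (θ F) = 0 := fun n => by
    have := congrArg (PowerSeries.coeff n) hrθ
    rw [(coeff_axes n _).1, ← hd, MvPowerSeries.coeff_pderiv, hsing, ind_one, map_zero] at this
    simpa using this
  have h02 : MvPowerSeries.coeff (ind 0 2) (θ F) ≠ 0 := by
    rw [coeff_two_map hF θ (α := 0) (β := 1) (by rw [hθdef, endo_xx, r₀_xx]; simp)
      (by rw [hθdef, endo_yy, map_add, r₀_yy, hwdef, r₀_inX, constantCoeff_psHom, hW0]; simp)]
    simpa using hc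
  set c₀ := r₁ (θ F) with hc₀def
  obtain ⟨Q, hQ⟩ : yy ∣ θ F - inX c₀ := by
    rw [yy_dvd_iff, map_sub, r₁_inX, hc₀def, sub_self]
  obtain ⟨U, hU⟩ : yy ∣ Q := by
    rw [yy_dvd_iff]
    refine PowerSeries.ext fun n => ?_
    rw [(coeff_axes n _).1, ← coeff_yy_mul, ← hQ, map_sub, h1, coeff_inX]
    simp
  have hUu : IsUnit U := by
    have : MvPowerSeries.coeff (ind 0 2) (θ F) = MvPowerSeries.coeff (ind 0 0) U := by
      rw [sub_eq_iff_eq_add.1 hQ, map_add, coeff_inX, if_neg two_ne_zero, add_zero]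
      exact (coeff_yy_mul Q 0 1).trans (by rw [hU]; exact coeff_yy_mul U 0 0)
    rw [MvPowerSeries.isUnit_iff_constantCoeff, isUnit_iff_ne_zero,
      ← MvPowerSeries.coeff_zero_eq_constantCoeff_apply,
      show (0 : Fin 2 →₀ ℕ) = ind 0 0 by simp [ind], ← this]
    exact h02
  obtain ⟨v, hv, hv2⟩ := exists_sq_eq h2 hUu
  have hyv : MvPowerSeries.constantCoeff (yy * v) = 0 := by simp
  have hτ : Function.Bijective (endo xx (yy * v) hx hyv) := endo_bijective _ _ (by
    rw [coeff_ind_mul_one (MvPowerSeries.constantCoeff_X _) 0 1 rfl, coeff_ind_xx, coeff_ind_xx,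
      coeff_ind_yy]
    simpa using isUnit_iff_ne_zero.1 (MvPowerSeries.isUnit_iff_constantCoeff.1 hv))
  refine ⟨c₀, ?_, (iso_map hτ isUnit_one ?_).trans (iso_map' hθ F).symm⟩
  · rw [PowerSeries.X_pow_dvd_iff]
    intro m hm
    rw [hc₀def, (coeff_axes m _).1]
    exact ordGE_iff_ind.1 (ordGE_map θ hF) m 0 (by omega)
  · rw [map_add, map_pow, endo_yy, endo_inX, one_mul, sub_eq_iff_eq_add.1 hQ, hU, mul_pow, hv2]
    ring

/-- A germ of multiplicity two is `y^2 = x^(n+1)` or `y^2 = 0`. -/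
theorem classification [IsAlgClosed k] (h2 : (2 : k) ≠ 0) {F : MvPowerSeries (Fin 2) k}
    (hF : OrdGE 2 F)
    (hq : MvPowerSeries.coeff (ind 2 0) F ≠ 0 ∨ MvPowerSeries.coeff (ind 1 1) F ≠ 0 ∨
      MvPowerSeries.coeff (ind 0 2) F ≠ 0) :
    Iso F (yy ^ 2) ∨ ∃ n : ℕ, Iso F (ArSing.eqn k n) := by
  obtain ⟨F', hFF', hF', hc⟩ := exists_iso_coeff_zero_two hF hq
  obtain ⟨c₀, hdvd, hiso⟩ := exists_iso_normal h2 hF' hc
  have hFc : Iso F (yy ^ 2 + inX c₀) := hFF'.trans hiso.symm
  by_cases hc₀ : c₀ = 0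
  · exact Or.inl (by rwa [hc₀, map_zero, add_zero] at hFc)
  obtain ⟨m, w₀, hw₀, hw0⟩ : ∃ m w₀, c₀ = PowerSeries.X ^ m * w₀ ∧
      PowerSeries.constantCoeff w₀ ≠ 0 := by
    refine ⟨c₀.order.toNat, PowerSeries.divXPowOrder c₀,
      (PowerSeries.X_pow_order_mul_divXPowOrder (f := c₀)).symm, ?_⟩
    exact fun h => hc₀ (PowerSeries.constantCoeff_divXPowOrder_eq_zero_iff.1 h)
  have hm : 2 ≤ m := by
    by_contra hm
    have := PowerSeries.X_pow_dvd_iff.1 hdvd m (by omega)
    rw [hw₀, PowerSeries.coeff_X_pow_mul', if_pos le_rfl, Nat.sub_self,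
      PowerSeries.coeff_zero_eq_constantCoeff] at this
    exact hw0 this
  obtain ⟨s, hs, hs2⟩ := exists_sq_eq h2 (U := -inX w₀) (by
    rw [IsUnit.neg_iff, MvPowerSeries.isUnit_iff_constantCoeff, constantCoeff_inX,
      isUnit_iff_ne_zero]
    exact hw0)
  obtain ⟨t, ht⟩ := hs.exists_right_inv
  have hyt : MvPowerSeries.constantCoeff (yy * t) = 0 := by simp
  have hφ : Function.Bijective (endo xx (yy * t) (MvPowerSeries.constantCoeff_X _) hyt) :=
    endo_bijective _ _ (by
      rw [coeff_ind_mul_one (MvPowerSeries.constantCoeff_X _) 0 1 rfl, coeff_ind_xx, coeff_ind_xx,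
        coeff_ind_yy]
      have := congrArg MvPowerSeries.constantCoeff ht
      rw [map_mul, map_one] at this
      simpa using right_ne_zero_of_mul_eq_one this)
  refine Or.inr ⟨m - 1, hFc.trans (iso_map hφ (hs.pow 2) ?_).symm⟩
  rw [ArSing.eqn, map_sub, map_pow, map_pow, show m - 1 + 1 = m by omega,
    show endo xx (yy * t) (MvPowerSeries.constantCoeff_X _) hyt (MvPowerSeries.X 1) = yy * t from
      endo_yy _ _,
    show endo xx (yy * t) (MvPowerSeries.constantCoeff_X _) hyt (MvPowerSeries.X 0) = xx from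
      endo_xx _ _,
    hw₀, map_mul, map_pow, show inX PowerSeries.X = xx from PowerSeries.substAlgHom_X _]
  linear_combination (xx ^ m) * hs2 - yy ^ 2 * (s * t + 1) * ht

/-! ### Lifting isomorphisms -/

theorem exists_lift {F G : MvPowerSeries (Fin 2) k} (hF : MvPowerSeries.constantCoeff F = 0)
    (h : Iso G F) :
    ∃ η : MvPowerSeries (Fin 2) k →ₐ[k] MvPowerSeries (Fin 2) k,
      (∀ z, ∃ w, z - η w ∈ Ideal.span ({F} : Set (MvPowerSeries (Fin 2) k))) ∧
      F ∣ η G ∧ MvPowerSeries.constantCoeff G = 0 := by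
  obtain ⟨e⟩ := h
  set I := Ideal.span ({F} : Set (MvPowerSeries (Fin 2) k)) with hI
  set J := Ideal.span ({G} : Set (MvPowerSeries (Fin 2) k)) with hJ
  have hFm : I ≤ IsLocalRing.maximalIdeal (MvPowerSeries (Fin 2) k) := by
    rw [hI, Ideal.span_le, Set.singleton_subset_iff]; exact mem_maximalIdeal_iff.2 hF
  have : Nontrivial (MvPowerSeries (Fin 2) k ⧸ I) := Ideal.Quotient.nontrivial_iff.2
    (ne_top_of_le_ne_top (IsLocalRing.maximalIdeal.isMaximal _).ne_top hFm)
  have : IsLocalRing (MvPowerSeries (Fin 2) k ⧸ I) :=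
    IsLocalRing.of_surjective' (Ideal.Quotient.mk I) Ideal.Quotient.mk_surjective
  have hG : MvPowerSeries.constantCoeff G = 0 := by
    by_contra hne
    have : Subsingleton (MvPowerSeries (Fin 2) k ⧸ J) := Ideal.Quotient.subsingleton_iff.2
      (Ideal.span_singleton_eq_top.2 (MvPowerSeries.isUnit_iff_constantCoeff.2
        (isUnit_iff_ne_zero.2 hne)))
    have : Subsingleton (MvPowerSeries (Fin 2) k ⧸ I) := e.symm.injective.subsingleton
    exact false_of_nontrivial_of_subsingleton (MvPowerSeries (Fin 2) k ⧸ I)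
  have hloc : ∀ z : MvPowerSeries (Fin 2) k, Ideal.Quotient.mk I z ∈
      IsLocalRing.maximalIdeal _ → MvPowerSeries.constantCoeff z = 0 := by
    intro z hz
    by_contra hne
    exact hz ((MvPowerSeries.isUnit_iff_constantCoeff.2 (isUnit_iff_ne_zero.2 hne)).map _)
  choose a ha using fun i : Fin 2 => Ideal.Quotient.mk_surjective
    (e (Ideal.Quotient.mk J (MvPowerSeries.X i)))
  have hem : ∀ i, e (Ideal.Quotient.mk J (MvPowerSeries.X i)) ∈
      IsLocalRing.maximalIdeal (MvPowerSeries (Fin 2) k ⧸ I) := by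
    intro i hu
    have hu' := hu.map e.symm
    rw [AlgEquiv.symm_apply_apply] at hu'
    obtain ⟨z, hz⟩ := Ideal.Quotient.mk_surjective (↑hu'.unit⁻¹ : MvPowerSeries (Fin 2) k ⧸ J)
    have h1 := hu'.mul_val_inv
    rw [← hz, ← map_mul, ← map_one (Ideal.Quotient.mk J), Ideal.Quotient.mk_eq_mk_iff_sub_mem,
      Ideal.mem_span_singleton] at h1
    obtain ⟨q, hq⟩ := h1
    have := congrArg MvPowerSeries.constantCoeff hq
    simp [hG] at this
  have ha0 : ∀ i, MvPowerSeries.constantCoeff (a i) = 0 := fun i =>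
    hloc _ (by rw [ha]; exact hem i)
  set η := endo (a 0) (a 1) (ha0 0) (ha0 1) with hη
  have hcomp : (Ideal.Quotient.mkₐ k I).comp η =
      e.toAlgHom.comp (Ideal.Quotient.mkₐ k J) := by
    refine ext_local (fun i => ?_) fun i => ?_
    · fin_cases i
      · show Ideal.Quotient.mk I (η xx) ∈ _
        rw [hη, endo_xx, ha]; exact hem 0
      · show Ideal.Quotient.mk I (η yy) ∈ _
        rw [hη, endo_yy, ha]; exact hem 1
    · fin_cases i
      · show Ideal.Quotient.mk I (η xx) = e (Ideal.Quotient.mk J (MvPowerSeries.X 0))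
        rw [hη, endo_xx, ha]
      · show Ideal.Quotient.mk I (η yy) = e (Ideal.Quotient.mk J (MvPowerSeries.X 1))
        rw [hη, endo_yy, ha]
  refine ⟨η, fun z => ?_, ?_, hG⟩
  · obtain ⟨w, hw⟩ := Ideal.Quotient.mk_surjective (e.symm (Ideal.Quotient.mk I z))
    refine ⟨w, Ideal.Quotient.mk_eq_mk_iff_sub_mem _ _ |>.1 ?_⟩
    rw [show Ideal.Quotient.mk I (η w) = e (Ideal.Quotient.mk J w) from AlgHom.congr_fun hcomp w,
      hw, AlgEquiv.apply_symm_apply]
  · rw [← Ideal.mem_span_singleton, ← hI, ← Ideal.Quotient.eq_zero_iff_mem,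
      show Ideal.Quotient.mk I (η G) = e (Ideal.Quotient.mk J G) from AlgHom.congr_fun hcomp G,
      Ideal.Quotient.eq_zero_iff_mem.2 (Ideal.mem_span_singleton_self G), map_zero]

theorem exists_lift_bijective {F G : MvPowerSeries (Fin 2) k} (hF : OrdGE 2 F) (h : Iso G F) :
    ∃ η : MvPowerSeries (Fin 2) k →ₐ[k] MvPowerSeries (Fin 2) k,
      Function.Bijective η ∧ F ∣ η G := by
  obtain ⟨η, hsurj, hdvd, -⟩ := exists_lift (by
    rw [← MvPowerSeries.coeff_zero_eq_constantCoeff_apply,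
      show (0 : Fin 2 →₀ ℕ) = ind 0 0 by simp [ind]]
    exact ordGE_iff_ind.1 hF 0 0 (by norm_num)) h
  refine ⟨η, bijective_of_isUnit_det _
    (fun i => by rw [constantCoeff_endo, MvPowerSeries.constantCoeff_X]) ?_, hdvd⟩
  have key : ∀ z, MvPowerSeries.constantCoeff z = 0 → ∃ p q : k, ∀ i j, i + j = 1 →
      MvPowerSeries.coeff (ind i j) z = p * MvPowerSeries.coeff (ind i j) (η xx) +
        q * MvPowerSeries.coeff (ind i j) (η yy) := by
    intro z hz
    obtain ⟨w, hw⟩ := hsurj z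
    rw [Ideal.mem_span_singleton] at hw
    obtain ⟨q, hq⟩ := hw
    have h2 : OrdGE 2 (z - η w) := hq ▸ OrdGE.mul_any q hF
    have hw0 : MvPowerSeries.constantCoeff w = 0 := by
      have := ordGE_iff_ind.1 h2 0 0 (by norm_num)
      rwa [show ind 0 0 = 0 by simp [ind], MvPowerSeries.coeff_zero_eq_constantCoeff_apply,
        map_sub, hz, constantCoeff_endo, zero_sub, neg_eq_zero] at this
    refine ⟨MvPowerSeries.coeff (ind 1 0) w, MvPowerSeries.coeff (ind 0 1) w, fun i j hij => ?_⟩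
    rw [← coeff_endo_one η hw0 i j hij, ← sub_eq_zero, ← map_sub]
    exact ordGE_iff_ind.1 h2 i j (by omega)
  obtain ⟨p, q, hx⟩ := key xx (MvPowerSeries.constantCoeff_X _)
  obtain ⟨r, s, hy⟩ := key yy (MvPowerSeries.constantCoeff_X _)
  have e1 := hx 1 0 rfl; have e2 := hx 0 1 rfl; have e3 := hy 1 0 rfl; have e4 := hy 0 1 rfl
  simp only [coeff_ind_xx, coeff_ind_yy, and_self, if_true, one_ne_zero, zero_ne_one,
    if_false] at e1 e2 e3 e4
  rw [isUnit_iff_ne_zero, Matrix.det_fin_two]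
  simp only [Matrix.of_apply, (coeff_single_eq_ind _).1, (coeff_single_eq_ind _).2]
  intro hdet
  set a := MvPowerSeries.coeff (ind 1 0) (η xx)
  set b := MvPowerSeries.coeff (ind 1 0) (η yy)
  set c := MvPowerSeries.coeff (ind 0 1) (η xx)
  set d := MvPowerSeries.coeff (ind 0 1) (η yy)
  change a * d - c * b = 0 at hdet
  apply one_ne_zero (α := k)
  linear_combination e1 + (p * a + q * b) * e4 - (p * c + q * d) * e3 + (p * s - q * r) * hdet

theorem ordGE_three_of_iso {F G : MvPowerSeries (Fin 2) k} (hF : OrdGE 3 F) (h : Iso F G) :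
    OrdGE 3 G := by
  obtain ⟨η, hη, q, hq⟩ := exists_lift_bijective
    (fun d hd => hF d (by omega)) h.symm
  have h3 : OrdGE 3 (η G) := hq ▸ OrdGE.mul_any q hF
  have := ordGE_map (AlgEquiv.ofBijective η hη).symm.toAlgHom h3
  rwa [show (AlgEquiv.ofBijective η hη).symm.toAlgHom (η G) = G from
    (AlgEquiv.ofBijective η hη).symm_apply_apply G] at this

theorem not_ordGE_three_yy_sq : ¬ OrdGE 3 (yy ^ 2 : MvPowerSeries (Fin 2) k) := fun h => by
  have := ordGE_iff_ind.1 h 0 2 (by norm_num)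
  rw [sq] at this
  have h' := (coeff_yy_mul yy 0 1).symm.trans this
  simp [coeff_ind_yy] at h'

theorem not_ordGE_three_eqn (n : ℕ) : ¬ OrdGE 3 (ArSing.eqn k n) := fun h => by
  classical
  have h' := ordGE_iff_ind.1 h 0 2 (by norm_num)
  rw [ArSing.eqn, map_sub, show (MvPowerSeries.X 0 : MvPowerSeries (Fin 2) k) = xx from rfl,
    show (MvPowerSeries.X 1 : MvPowerSeries (Fin 2) k) = yy from rfl, sq,
    MvPowerSeries.X_pow_eq, MvPowerSeries.coeff_monomial, if_neg, sub_zero] at h'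
  · have h'' := (coeff_yy_mul yy 0 1).symm.trans h'
    simp [coeff_ind_yy] at h''
  · intro e
    simpa using DFunLike.congr_fun e 0

theorem eq_unit_mul_sq_of_iso {F : MvPowerSeries (Fin 2) k} (h : Iso F (yy ^ 2)) :
    ∃ (φ : MvPowerSeries (Fin 2) k →ₐ[k] MvPowerSeries (Fin 2) k) (U : MvPowerSeries (Fin 2) k),
      Function.Bijective φ ∧ IsUnit U ∧ F = U * φ yy ^ 2 := by
  obtain ⟨-, -, -, hF0⟩ := exists_lift (by simp) h
  have hF3 : ¬ OrdGE 3 F := fun h3 => not_ordGE_three_yy_sq (ordGE_three_of_iso h3 h)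
  by_cases hlin : MvPowerSeries.coeff (ind 1 0) F ≠ 0 ∨ MvPowerSeries.coeff (ind 0 1) F ≠ 0
  · exfalso
    obtain ⟨φ, hφ, hφy⟩ := iso_yy_of_linear hF0 hlin
    obtain ⟨e⟩ := (iso_map (G := yy) hφ isUnit_one (by rw [hφy, one_mul])).trans h
    obtain ⟨z, hz⟩ := Ideal.Quotient.mk_surjective (e.symm (Ideal.Quotient.mk _ yy))
    have h2 : Ideal.Quotient.mk (Ideal.span ({yy} : Set (MvPowerSeries (Fin 2) k))) (z ^ 2) = 0 := by
      rw [map_pow, hz, ← map_pow, ← map_pow, Ideal.Quotient.eq_zero_iff_mem.2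
        (Ideal.mem_span_singleton_self _), map_zero]
    rw [Ideal.Quotient.eq_zero_iff_mem, Ideal.mem_span_singleton, yy_dvd_iff, map_pow,
      sq_eq_zero_iff, ← yy_dvd_iff, ← Ideal.mem_span_singleton,
      ← Ideal.Quotient.eq_zero_iff_mem, hz, EmbeddingLike.map_eq_zero_iff,
      Ideal.Quotient.eq_zero_iff_mem, Ideal.mem_span_singleton] at h2
    obtain ⟨q, hq⟩ := h2
    have := congrArg (MvPowerSeries.coeff (ind 0 1)) hq
    rw [coeff_ind_yy, sq, mul_assoc, show (1 : ℕ) = 0 + 1 from rfl, coeff_yy_mul,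
      show ind 0 0 = 0 by simp [ind], MvPowerSeries.coeff_zero_eq_constantCoeff_apply] at this
    simp at this
  push Not at hlin
  have hF2 : OrdGE 2 F := ordGE_iff_ind.2 fun i j hij => by
    obtain ⟨rfl, rfl⟩ | ⟨rfl, rfl⟩ | ⟨rfl, rfl⟩ :
        (i = 0 ∧ j = 0) ∨ (i = 1 ∧ j = 0) ∨ (i = 0 ∧ j = 1) := by omega
    · rwa [show ind 0 0 = 0 by simp [ind], MvPowerSeries.coeff_zero_eq_constantCoeff_apply]
    · exact hlin.1
    · exact hlin.2
  obtain ⟨η, hη, q, hq⟩ := exists_lift_bijective hF2 h.symm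
  rw [map_pow] at hq
  have hqu : IsUnit q := by
    rw [MvPowerSeries.isUnit_iff_constantCoeff, isUnit_iff_ne_zero]
    intro hq0
    have h3 : OrdGE 3 (η (yy ^ 2)) := by
      rw [map_pow, hq]; exact hF2.mul (ordGE_one_iff.2 hq0)
    have := ordGE_map (AlgEquiv.ofBijective η hη).symm.toAlgHom h3
    rw [show (AlgEquiv.ofBijective η hη).symm.toAlgHom (η (yy ^ 2)) = yy ^ 2 from
      (AlgEquiv.ofBijective η hη).symm_apply_apply _] at this
    exact not_ordGE_three_yy_sq this
  obtain ⟨t, ht⟩ := hqu.exists_right_inv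
  refine ⟨η, t, hη, IsUnit.of_mul_eq_one q (by rw [mul_comm]; exact ht), ?_⟩
  rw [hq, mul_comm t, mul_assoc, ht, mul_one]

end Groth.Agent.ArSing32
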