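import Groth.Agent.ArSing32.PlaneClass
import Groth.Agent.Jac77.Basic
import Mathlib.RingTheory.KrullDimension.Polynomial
import Mathlib.RingTheory.UniqueFactorizationDomain.Ideal
import Mathlib.RingTheory.Polynomial.UniqueFactorization

/-!
# The germ of a plane curve at a point, descent of `y^2`
-/

set_option autoImplicit false

noncomputable section

namespace Groth.Agent.ArSing32

open CAlg6

universe u

variable {k : Type u} [Field k]

/-- The polynomial `f` recentred at `a`, as a power series. -/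
def germ (a : Fin 2 → k) : MvPolynomial (Fin 2) k →ₐ[k] MvPowerSeries (Fin 2) k :=
  MvPolynomial.aeval fun i => MvPowerSeries.X i + MvPowerSeries.C (a i)

theorem germ_eq (a : Fin 2 → k) (f : MvPolynomial (Fin 2) k) :
    germ a f = (MvPolynomial.aeval (fun i : Fin 2 => MvPolynomial.X i + MvPolynomial.C (a i))
      f).toMvPowerSeries := by
  induction f using MvPolynomial.induction_on with
  | C c =>
    rw [germ, MvPolynomial.aeval_C, MvPolynomial.aeval_C, MvPolynomial.algebraMap_eq,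
      MvPolynomial.coe_C]
    rfl
  | add p q hp hq => simp only [map_add, MvPolynomial.coe_add, hp, hq]
  | mul_X p i hp =>
    rw [map_mul, map_mul, MvPolynomial.coe_mul, ← hp, germ, MvPolynomial.aeval_X,
      MvPolynomial.aeval_X, MvPolynomial.coe_add, MvPolynomial.coe_X, MvPolynomial.coe_C]

theorem constantCoeff_germ (a : Fin 2 → k) (f : MvPolynomial (Fin 2) k) :
    MvPowerSeries.constantCoeff (germ a f) = MvPolynomial.eval a f := by
  induction f using MvPolynomial.induction_on with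
  | C c =>
    rw [germ, MvPolynomial.aeval_C, MvPolynomial.eval_C]
    exact MvPowerSeries.constantCoeff_C c
  | add p q hp hq => simp only [map_add, hp, hq]
  | mul_X p i hp =>
    have hX : germ a (MvPolynomial.X i) = MvPowerSeries.X i + MvPowerSeries.C (a i) :=
      MvPolynomial.aeval_X _ _
    rw [map_mul, map_mul, map_mul, hp, hX]
    simp

theorem pderiv_germ (a : Fin 2 → k) (i : Fin 2) (f : MvPolynomial (Fin 2) k) :
    MvPowerSeries.pderiv k i (germ a f) = germ a (MvPolynomial.pderiv i f) := by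
  classical
  induction f using MvPolynomial.induction_on with
  | C c =>
    rw [MvPolynomial.pderiv_C, map_zero, germ, MvPolynomial.aeval_C]
    exact MvPowerSeries.pderiv_C
  | add p q hp hq => simp only [map_add, hp, hq]
  | mul_X p j hp =>
    have hX : germ a (MvPolynomial.X j) = MvPowerSeries.X j + MvPowerSeries.C (a j) :=
      MvPolynomial.aeval_X _ _
    rw [map_mul, Derivation.leibniz, hp, MvPolynomial.pderiv_mul, map_add, map_mul, map_mul, hX,
      map_add, MvPowerSeries.pderiv_C, add_zero, smul_eq_mul, smul_eq_mul]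
    by_cases h : j = i
    · subst h
      rw [MvPowerSeries.pderiv_X_self, MvPolynomial.pderiv_X_self, map_one]
      ring
    · rw [MvPowerSeries.pderiv_X_of_ne h, MvPolynomial.pderiv_X_of_ne h, map_zero]
      ring

theorem coeff_one_germ (a : Fin 2 → k) (f : MvPolynomial (Fin 2) k) (i : Fin 2) :
    MvPowerSeries.coeff (Finsupp.single i 1) (germ a f) =
      MvPolynomial.eval a (MvPolynomial.pderiv i f) := by
  rw [← constantCoeff_germ, ← pderiv_germ, ← MvPowerSeries.coeff_zero_eq_constantCoeff_apply,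
    MvPowerSeries.coeff_pderiv, zero_add]
  simp

theorem coeff_two_germ (a : Fin 2 → k) (f : MvPolynomial (Fin 2) k) (i j : Fin 2) :
    MvPowerSeries.coeff (Finsupp.single i 1 + Finsupp.single j 1) (germ a f) *
        ((Finsupp.single i 1 : Fin 2 →₀ ℕ) j + 1 : ℕ) =
      MvPolynomial.eval a (MvPolynomial.pderiv i (MvPolynomial.pderiv j f)) := by
  rw [← coeff_one_germ, ← pderiv_germ, MvPowerSeries.coeff_pderiv, Nat.cast_add, Nat.cast_one]

/-- Vanishing of the derivatives up to order two is vanishing of the coefficients. -/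
theorem ordGE_three_germ_iff (h2 : (2 : k) ≠ 0) (a : Fin 2 → k) (f : MvPolynomial (Fin 2) k)
    (hfa : MvPolynomial.eval a f = 0) :
    OrdGE 3 (germ a f) ↔ (∀ i, MvPolynomial.eval a (MvPolynomial.pderiv i f) = 0) ∧
      ∀ i j : Fin 2, MvPolynomial.eval a (MvPolynomial.pderiv i (MvPolynomial.pderiv j f)) = 0 := by
  classical
  constructor
  · intro h
    refine ⟨fun i => ?_, fun i j => ?_⟩
    · rw [← coeff_one_germ]; exact h _ (by rw [Finsupp.degree_single]; norm_num)
    · rw [← coeff_two_germ, h _ (by rw [map_add, Finsupp.degree_single, Finsupp.degree_single]; norm_num),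
        zero_mul]
  · rintro ⟨h₁, h₂⟩
    have e : ∀ i j : Fin 2,
        MvPowerSeries.coeff (Finsupp.single i 1 + Finsupp.single j 1) (germ a f) = 0 := by
      intro i j
      refine (mul_eq_zero.1 ((coeff_two_germ a f i j).trans (h₂ i j))).resolve_right ?_
      fin_cases i <;> fin_cases j <;> simp [h2, one_add_one_eq_two]
    rw [ordGE_iff_ind]
    intro i j hij
    obtain ⟨rfl, rfl⟩ | ⟨rfl, rfl⟩ | ⟨rfl, rfl⟩ | ⟨rfl, rfl⟩ | ⟨rfl, rfl⟩ | ⟨rfl, rfl⟩ :
        (i = 0 ∧ j = 0) ∨ (i = 1 ∧ j = 0) ∨ (i = 0 ∧ j = 1) ∨ (i = 2 ∧ j = 0) ∨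
          (i = 1 ∧ j = 1) ∨ (i = 0 ∧ j = 2) := by omega
    · rw [show ind 0 0 = 0 by simp [ind], MvPowerSeries.coeff_zero_eq_constantCoeff_apply,
        constantCoeff_germ, hfa]
    · rw [show ind 1 0 = Finsupp.single 0 1 by simp [ind], coeff_one_germ, h₁]
    · rw [show ind 0 1 = Finsupp.single 1 1 by simp [ind], coeff_one_germ, h₁]
    · rw [show ind 2 0 = Finsupp.single 0 1 + Finsupp.single 0 1 by
        ext l; fin_cases l <;> simp [ind], e]
    · rw [show ind 1 1 = Finsupp.single 0 1 + Finsupp.single 1 1 by simp [ind], e]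
    · rw [show ind 0 2 = Finsupp.single 1 1 + Finsupp.single 1 1 by
        ext l; fin_cases l <;> simp [ind], e]

/-- In the plane, a nonzero nonmaximal prime is principal. -/
theorem exists_eq_span_of_not_isMaximal {P : Ideal (MvPolynomial (Fin 2) k)} (hP : P.IsPrime)
    (h0 : P ≠ ⊥) (hmax : ¬ P.IsMaximal) : ∃ p, Prime p ∧ P = Ideal.span {p} := by
  obtain ⟨p, hpP, hp⟩ := hP.exists_mem_prime_of_ne_bot h0
  refine ⟨p, hp, ?_⟩
  have hle : Ideal.span {p} ≤ P := by rwa [Ideal.span_le, Set.singleton_subset_iff]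
  refine hle.antisymm' ?_
  by_contra hlt
  obtain ⟨M, hM, hPM⟩ := Ideal.exists_le_maximal P hP.ne_top
  have hP' : P < M := lt_of_le_of_ne hPM fun e => hmax (e ▸ hM)
  have h1 : Ideal.span {p} < P := lt_of_le_of_ne hle fun e => hlt e.ge
  have hpp : (Ideal.span ({p} : Set (MvPolynomial (Fin 2) k))).IsPrime :=
    (Ideal.span_singleton_prime hp.ne_zero).2 hp
  have hb : (⊥ : Ideal (MvPolynomial (Fin 2) k)) < Ideal.span {p} :=
    bot_lt_iff_ne_bot.2 (by rw [Ne, Ideal.span_singleton_eq_bot]; exact hp.ne_zero)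
  let L : LTSeries (PrimeSpectrum (MvPolynomial (Fin 2) k)) := LTSeries.mk 3
    ![⟨⊥, Ideal.isPrime_bot⟩, ⟨_, hpp⟩, ⟨P, hP⟩, ⟨M, hM.isPrime⟩]
    (Fin.strictMono_iff_lt_succ.2 fun i => by
      fin_cases i
      · exact hb
      · exact h1
      · exact hP')
  have h3 := Order.LTSeries.length_le_krullDim L
  have hdim : Order.krullDim (PrimeSpectrum (MvPolynomial (Fin 2) k)) = 2 := by
    show ringKrullDim (MvPolynomial (Fin 2) k) = 2
    rw [MvPolynomial.ringKrullDim_of_isNoetherianRing, ringKrullDim_eq_zero_of_field]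
    simp
  rw [hdim] at h3
  have h4 : ((3 : ℕ) : WithBot ℕ∞) ≤ ((2 : ℕ) : WithBot ℕ∞) := h3
  exact absurd (Nat.cast_le.1 h4) (by norm_num)

/-- Descent: a germ isomorphic to a double line comes from a double component. -/
theorem exists_sq_mul_of_germ [IsAlgClosed k] (a : Fin 2 → k) (f : MvPolynomial (Fin 2) k)
    (h : Iso (germ a f) (yy ^ 2)) :
    ∃ g h' : MvPolynomial (Fin 2) k, f = g ^ 2 * h' ∧ MvPolynomial.eval a h' ≠ 0 ∧
      MvPolynomial.eval a g = 0 ∧ ∃ i : Fin 2, MvPolynomial.eval a (MvPolynomial.pderiv i g) ≠ 0 := by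
  classical
  obtain ⟨φ, U, hφ, hU, hF⟩ := eq_unit_mul_sq_of_iso h
  set G := φ yy with hGdef
  set ψ := (AlgEquiv.ofBijective φ hφ).symm.toAlgHom
  have hψ : ∀ z, ψ (φ z) = z := (AlgEquiv.ofBijective φ hφ).symm_apply_apply
  have hψ' : ∀ z, φ (ψ z) = z := (AlgEquiv.ofBijective φ hφ).apply_symm_apply
  set ρ := (r₁.comp ψ).comp (germ a) with hρ
  set P : Ideal (MvPolynomial (Fin 2) k) := RingHom.ker ρ
  have hmem : ∀ z, z ∈ P ↔ G ∣ germ a z := by
    intro z
    rw [RingHom.mem_ker, hρ, AlgHom.comp_apply, AlgHom.comp_apply, ← yy_dvd_iff]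
    constructor
    · rintro ⟨q, hq⟩
      exact ⟨φ q, by rw [hGdef, ← map_mul, ← hq, hψ']⟩
    · rintro ⟨q, hq⟩
      exact ⟨ψ q, by rw [hq, map_mul, hψ]⟩
  have hG0 : MvPowerSeries.constantCoeff G = 0 := by
    rw [hGdef, constantCoeff_endo]; exact MvPowerSeries.constantCoeff_X _
  have hlin : ∃ i, MvPowerSeries.coeff (Finsupp.single i 1) G ≠ 0 := by
    by_contra hne
    push Not at hne
    have h2 : OrdGE 2 G := ordGE_iff_ind.2 fun i j hij => by
      obtain ⟨rfl, rfl⟩ | ⟨rfl, rfl⟩ | ⟨rfl, rfl⟩ :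
          (i = 0 ∧ j = 0) ∨ (i = 1 ∧ j = 0) ∨ (i = 0 ∧ j = 1) := by omega
      · rwa [show ind 0 0 = 0 by simp [ind], MvPowerSeries.coeff_zero_eq_constantCoeff_apply]
      · rw [show ind 1 0 = Finsupp.single 0 1 by simp [ind]]; exact hne 0
      · rw [show ind 0 1 = Finsupp.single 1 1 by simp [ind]]; exact hne 1
    have := ordGE_iff_ind.1 (ordGE_map ψ h2) 0 1 (by norm_num)
    rw [hGdef, hψ, coeff_ind_yy] at this
    simp at this
  have hfP : f ∈ P := (hmem f).2 (by rw [hF]; exact ⟨U * G, by ring⟩)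
  have hdP : ∀ i, MvPolynomial.pderiv i f ∈ P := fun i => (hmem _).2 (by
    rw [← pderiv_germ, hF, Derivation.leibniz, Derivation.leibniz_pow]
    exact ⟨U * (2 * MvPowerSeries.pderiv k i G) + G * MvPowerSeries.pderiv k i U, by
      simp only [smul_eq_mul, Nat.add_one_sub_one, pow_one, nsmul_eq_mul]
      push_cast
      ring⟩)
  have hP0 : P ≠ ⊥ := fun e => by
    have hf0 : f = 0 := by rwa [e, Ideal.mem_bot] at hfP
    refine not_ordGE_three_yy_sq (ordGE_three_of_iso (fun d _ => ?_) h)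
    rw [hf0, map_zero, map_zero]
  have hPprime : P.IsPrime := RingHom.ker_isPrime _
  have hPmax : ¬ P.IsMaximal := by
    intro hmax
    have hle : P ≤ RingHom.ker (MvPolynomial.eval a) := fun z hz => by
      obtain ⟨q, hq⟩ := (hmem z).1 hz
      rw [RingHom.mem_ker, ← constantCoeff_germ, hq, map_mul, hG0, zero_mul]
    have heq : P = RingHom.ker (MvPolynomial.eval a) :=
      hmax.eq_of_le (RingHom.ker_ne_top _) hle
    have hX : ∀ i, r₁ (ψ (MvPowerSeries.X i)) = 0 := fun i => by
      have : MvPolynomial.X i - MvPolynomial.C (a i) ∈ P := by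
        rw [heq, RingHom.mem_ker]; simp
      rw [RingHom.mem_ker, hρ, AlgHom.comp_apply, AlgHom.comp_apply] at this
      rwa [show germ a (MvPolynomial.X i - MvPolynomial.C (a i)) = MvPowerSeries.X i by
        rw [map_sub, germ, MvPolynomial.aeval_X, MvPolynomial.aeval_C]
        exact add_sub_cancel_right _ _] at this
    obtain ⟨g₀, g₁, hg, -, -⟩ := exists_linear (F := φ xx)
      (by rw [constantCoeff_endo]; exact MvPowerSeries.constantCoeff_X _)
    have h0 := r₁_xx (k := k)
    rw [← hψ xx, hg, map_add, map_mul, map_mul, map_add, map_mul, map_mul,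
      show r₁ (ψ xx) = 0 from hX 0, show r₁ (ψ yy) = 0 from hX 1, zero_mul, zero_mul,
      add_zero] at h0
    exact PowerSeries.X_ne_zero h0.symm
  obtain ⟨p, hp, hPp⟩ := exists_eq_span_of_not_isMaximal hPprime hP0 hPmax
  obtain ⟨h₀, hh₀, hh⟩ := Jac77.exists_mul_mem_sq P hfP hdP
  rw [hPp, Ideal.span_singleton_pow, Ideal.mem_span_singleton] at hh
  rw [hPp, Ideal.mem_span_singleton] at hh₀
  obtain ⟨r, hr⟩ := hp.pow_dvd_of_dvd_mul_left 2 hh₀ hh
  have hpP : p ∈ P := by rw [hPp]; exact Ideal.mem_span_singleton_self p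
  obtain ⟨P', hP'⟩ := (hmem p).1 hpP
  have hG : G ≠ 0 := fun e => by
    obtain ⟨i, hi⟩ := hlin
    exact hi (by rw [e, map_zero])
  have hu : P' ^ 2 * germ a r = U := by
    have := hF
    rw [hr, map_mul, map_pow, hP'] at this
    refine mul_right_cancel₀ (pow_ne_zero 2 hG) ?_
    linear_combination this
  have hc : MvPowerSeries.constantCoeff P' ≠ 0 ∧ MvPolynomial.eval a r ≠ 0 := by
    have := (MvPowerSeries.isUnit_iff_constantCoeff.1 hU).ne_zero
    rw [← hu, map_mul, map_pow, constantCoeff_germ] at this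
    exact ⟨fun e => this (by rw [e]; ring), fun e => this (by rw [e]; ring)⟩
  refine ⟨p, r, hr, hc.2, ?_, ?_⟩
  · rw [← constantCoeff_germ, hP', map_mul, hG0, zero_mul]
  · obtain ⟨i, hi⟩ := hlin
    refine ⟨i, ?_⟩
    rw [← coeff_one_germ, hP',
      show Finsupp.single i 1 = ind ((Finsupp.single i 1 : Fin 2 →₀ ℕ) 0)
        ((Finsupp.single i 1 : Fin 2 →₀ ℕ) 1) from (ind_self _).symm,
      coeff_ind_mul_one hG0 _ _ (by fin_cases i <;> simp), ind_self]
    exact mul_ne_zero hi hc.1

end Groth.Agent.ArSing32
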