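import Groth.Agent.ArSing32.Node

/-!
# Substitution in one variable: congruences and linearization of involutions
-/

set_option autoImplicit false

noncomputable section

namespace Groth.Agent.ArSing32

open PowerSeries

universe u

variable {k : Type u} [Field k]

/-- `f ↦ f ∘ T`. -/
def comp (T : PowerSeries k) (hT : constantCoeff T = 0) : PowerSeries k →ₐ[k] PowerSeries k :=
  substAlgHom (HasSubst.of_constantCoeff_zero' hT)

theorem comp_apply {T : PowerSeries k} (hT : constantCoeff T = 0) (f : PowerSeries k) :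
    comp T hT f = subst T f := by
  rw [comp, coe_substAlgHom]

theorem comp_X {T : PowerSeries k} (hT : constantCoeff T = 0) : comp T hT X = T :=
  substAlgHom_X _

theorem subst_subst {S T : PowerSeries k} (hS : constantCoeff S = 0) (hT : constantCoeff T = 0)
    (f : PowerSeries k) : subst T (subst S f) = subst (subst T S) f :=
  subst_comp_subst_apply (HasSubst.of_constantCoeff_zero' hS) (HasSubst.of_constantCoeff_zero' hT) f

theorem subst_X' {T : PowerSeries k} (hT : constantCoeff T = 0) : subst T (X : PowerSeries k) = T :=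
  subst_X (HasSubst.of_constantCoeff_zero' hT)

theorem constantCoeff_subst' {T : PowerSeries k} (hT : constantCoeff T = 0) (f : PowerSeries k) :
    constantCoeff (subst T f) = constantCoeff f := by
  obtain ⟨g, hg⟩ : X ∣ f - C (constantCoeff f) := X_dvd_iff.2 (by simp)
  rw [← comp_apply hT, sub_eq_iff_eq_add.1 hg, map_add, map_mul, comp_X,
    show comp T hT (C (constantCoeff f)) = C (constantCoeff f) from (comp T hT).commutes _]
  simp [hT]

theorem dvd_subst {T : PowerSeries k} (hT : constantCoeff T = 0) {n : ℕ} {f : PowerSeries k}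
    (h : X ^ n ∣ f) : X ^ n ∣ subst T f := by
  obtain ⟨g, rfl⟩ := h
  obtain ⟨v, hv⟩ := X_dvd_iff.2 hT
  rw [← comp_apply hT, map_mul, map_pow, comp_X]
  refine Dvd.dvd.mul_right ?_ _
  exact pow_dvd_pow_of_dvd ⟨v, hv⟩ n

theorem subst_congr_left {S T : PowerSeries k} (hT : constantCoeff T = 0) {n : ℕ} {f : PowerSeries k}
    (h : X ^ n ∣ S - f) : X ^ n ∣ subst T S - subst T f := by
  rw [← comp_apply hT, ← comp_apply hT, ← map_sub, comp_apply]
  exact dvd_subst hT h

theorem subst_congr_right {S T : PowerSeries k} (hS : constantCoeff S = 0)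
    (hT : constantCoeff T = 0) {n : ℕ} (h : X ^ n ∣ S - T) (f : PowerSeries k) :
    X ^ n ∣ subst S f - subst T f := by
  obtain ⟨g, hg⟩ : X ^ n ∣ f - ((trunc n f : Polynomial k) : PowerSeries k) :=
    X_pow_dvd_iff.2 fun m hm => by simp [coeff_trunc, hm]
  have e := sub_eq_iff_eq_add'.1 hg
  rw [← comp_apply hS, ← comp_apply hT, e, map_add, map_add, add_sub_add_comm]
  refine dvd_add ?_ (dvd_sub ?_ ?_)
  · have : ∀ {U : PowerSeries k} (hU : constantCoeff U = 0),
        comp U hU ((trunc n f : Polynomial k) : PowerSeries k) =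
          ((trunc n f).map (C : k →+* PowerSeries k)).eval U := fun {U} hU => by
      rw [comp_apply, PowerSeries.subst_coe (HasSubst.of_constantCoeff_zero' hU),
        Polynomial.eval_map, Polynomial.aeval_def]
      rfl
    rw [this, this]
    exact h.trans (Polynomial.sub_dvd_eval_sub _ _ _)
  · rw [comp_apply]; exact dvd_subst hS (dvd_mul_right _ _)
  · rw [comp_apply]; exact dvd_subst hT (dvd_mul_right _ _)

theorem coeff_one_subst {T : PowerSeries k} (hT : constantCoeff T = 0) (f : PowerSeries k) :
    coeff 1 (subst T f) = coeff 1 f * coeff 1 T := by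
  rw [coeff_subst' (HasSubst.of_constantCoeff_zero' hT), finsum_eq_single _ 1, pow_one, smul_eq_mul]
  intro d hd
  rcases d with _ | _ | d
  · simp
  · simp at hd
  · obtain ⟨v, hv⟩ := X_dvd_iff.2 hT
    rw [hv, mul_pow, coeff_X_pow_mul', if_neg (by omega), smul_zero]

/-- The compositional inverse. -/
theorem exists_inv {T : PowerSeries k} (hT : constantCoeff T = 0) (h1 : coeff 1 T ≠ 0) :
    ∃ T' : PowerSeries k, constantCoeff T' = 0 ∧ subst T' T = X ∧ subst T T' = X :=
  ⟨T.substInvOfIsUnit (isUnit_iff_ne_zero.2 h1), constantCoeff_substInvOfIsUnit _ _,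
    subst_substInvOfIsUnit_right _ hT _, subst_substInvOfIsUnit_left _ hT _⟩

theorem subst_left_injective {T : PowerSeries k} (hT : constantCoeff T = 0) (h1 : coeff 1 T ≠ 0)
    {f g : PowerSeries k} (h : subst T f = subst T g) : f = g := by
  obtain ⟨T', hT', e, -⟩ := exists_inv hT h1
  have := congrArg (subst T') h
  rwa [subst_subst hT hT', subst_subst hT hT', e, X_subst, X_subst] at this

/-- The linearizing coordinate attached to `s` and a scalar `ξ`. -/
def lin (ξ : k) (s : PowerSeries k) : PowerSeries k := C (2⁻¹ : k) * (X + C ξ * s)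

theorem constantCoeff_lin {ξ : k} {s : PowerSeries k} (hs : constantCoeff s = 0) :
    constantCoeff (lin ξ s) = 0 := by
  simp [lin, hs]

theorem coeff_one_lin (ξ : k) (s : PowerSeries k) :
    coeff 1 (lin ξ s) = 2⁻¹ * (1 + ξ * coeff 1 s) := by
  simp [lin]

theorem subst_lin {ξ : k} (hξ : ξ ^ 2 = 1) {s t : PowerSeries k} (hs : constantCoeff s = 0)
    (ht : subst s t = X) : subst s (lin ξ t) = C ξ * lin ξ s := by
  have hC : ∀ a : k, comp s hs (C a) = C a := fun a => (comp s hs).commutes a
  have e : (C ξ : PowerSeries k) * C ξ = 1 := by rw [← map_mul, ← sq, hξ, map_one]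
  simp only [lin, ← comp_apply hs, map_mul, map_add, hC, comp_X]
  rw [comp_apply, ht]
  linear_combination (-(C (2⁻¹ : k) * s)) * e

theorem dvd_lin_sub {n : ℕ} {ξ : k} {s t : PowerSeries k} (h : X ^ n ∣ s - t) :
    X ^ n ∣ lin ξ s - lin ξ t := by
  rw [show lin ξ s - lin ξ t = C (2⁻¹ : k) * C ξ * (s - t) by unfold lin; ring]
  exact h.mul_left _

theorem coeff_one_sq_eq_one {s : PowerSeries k} (hs : constantCoeff s = 0) (h : subst s s = X) :
    coeff 1 s ^ 2 = 1 := by
  rw [sq, ← coeff_one_subst hs, h, coeff_one_X]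

theorem coeff_one_lin_self (h2 : (2 : k) ≠ 0) {s : PowerSeries k} (hs : constantCoeff s = 0)
    (h : subst s s = X) : coeff 1 (lin (coeff 1 s) s) ≠ 0 := by
  rw [coeff_one_lin, ← sq, coeff_one_sq_eq_one hs h, ← two_mul, mul_one, inv_mul_cancel₀ h2]
  exact one_ne_zero

/-- An involution with linear coefficient `1` is the identity. -/
theorem eq_X_of_involution (h2 : (2 : k) ≠ 0) {s : PowerSeries k} (hs : constantCoeff s = 0)
    (h : subst s s = X) (h1 : coeff 1 s = 1) : s = X := by
  have e := subst_lin (ξ := (1 : k)) (one_pow 2) hs h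
  rw [map_one, one_mul] at e
  have hl := constantCoeff_lin (ξ := (1 : k)) hs
  have hne : coeff 1 (lin 1 s) ≠ 0 := h1 ▸ coeff_one_lin_self h2 hs h
  obtain ⟨T', hT', -, eL⟩ := exists_inv hl hne
  calc s = subst s (X : PowerSeries k) := (subst_X' hs).symm
    _ = subst s (subst (lin 1 s) T') := by rw [eL]
    _ = subst (lin 1 s) T' := by rw [subst_subst hl hs, e]
    _ = X := eL

theorem rescale_eq_subst_neg (f : PowerSeries k) :
    rescale (-1 : k) f = subst (-X : PowerSeries k) f := by
  rw [rescale_eq_subst]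
  congr 1
  simp

theorem rescale_subst {T : PowerSeries k} (hT : constantCoeff T = 0) (f : PowerSeries k) :
    rescale (-1 : k) (subst T f) = subst (rescale (-1 : k) T) f := by
  rw [rescale_eq_subst_neg, rescale_eq_subst_neg, subst_subst hT (by simp)]

end Groth.Agent.ArSing32
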